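import Cfsg.Agent.CoprimeNilMax.Witness
import Cfsg.Agent.Transfer.Basic
import Cfsg.Agent.S3839

/-!
If a self-normalizing Sylow 2-subgroup of class at most two has no normal complement, there is a
witness.
-/

set_option autoImplicit false
set_option linter.style.haveILetI false

namespace Cfsg.Agent.CoprimeNilMax

open Subgroup

variable {G : Type*} [Group G]

/-- Frattini argument with a maximal 2-subgroup. -/
theorem frattini_max [Finite G] {L R : Subgroup G} (hR : IsPGroup 2 R) (hRL : R ≤ L)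
    (hmax : ∀ S : Subgroup G, IsPGroup 2 S → R ≤ S → S ≤ L → S ≤ R) {h : G}
    (hh : ∀ x ∈ L, h * x * h⁻¹ ∈ L) : ∃ l ∈ L, ∀ x ∈ R, l * h * x * (l * h)⁻¹ ∈ R := by
  haveI : Fact (Nat.Prime 2) := ⟨Nat.prime_two⟩
  obtain ⟨P, hP⟩ := (hR.of_equiv (subgroupOfEquivOfLe hRL).symm).exists_le_sylow
  have hPR : ∀ x : L, x ∈ (P : Subgroup L) ↔ (x : G) ∈ R := by
    intro x
    refine ⟨fun hx => ?_, fun hx => hP hx⟩
    refine hmax ((P : Subgroup L).map L.subtype) (P.2.map _) (fun y hy => ?_) (map_subtype_le _)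
      ⟨x, hx, rfl⟩
    exact ⟨⟨y, hRL hy⟩, hP hy, rfl⟩
  set R' := R.map (MulAut.conj h).toMonoidHom with hR'
  have hR'L : R' ≤ L := by
    rintro _ ⟨x, hx, rfl⟩
    exact hh x (hRL hx)
  obtain ⟨Q, hQ⟩ := ((hR.map (MulAut.conj h).toMonoidHom).of_equiv
    (subgroupOfEquivOfLe hR'L).symm).exists_le_sylow
  obtain ⟨l, hl⟩ := MulAction.exists_smul_eq L Q P
  refine ⟨(l : G), l.2, fun x hx => ?_⟩
  have h1 : (⟨h * x * h⁻¹, hh x (hRL hx)⟩ : L) ∈ (Q : Subgroup L) := hQ ⟨x, hx, rfl⟩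
  have h2 : l * ⟨h * x * h⁻¹, hh x (hRL hx)⟩ * l⁻¹ ∈ (P : Subgroup L) := by
    rw [← hl, ← SetLike.mem_coe, Sylow.coe_subgroup_smul, Subgroup.coe_pointwise_smul]
    exact ⟨_, h1, rfl⟩
  have h3 := (hPR _).1 h2
  simp only [Subgroup.coe_mul, InvMemClass.coe_inv] at h3
  convert h3 using 1
  group

/-- iterating a conjugation that moves `x` by `δ` and `δ` by an element of `W` -/
theorem iterate_conj {g x δ : G} {V W : Subgroup G}
    (hV : ∀ a ∈ V, ∀ b ∈ V, a * b = b * a) (hWV : W ≤ V) (hδV : δ ∈ V)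
    (hx : x⁻¹ * (g * x * g⁻¹) = δ) (hW : ∀ w ∈ W, g * w * g⁻¹ ∈ W)
    (hδ : δ⁻¹ * (g * δ * g⁻¹) ∈ W) {N : ℕ} (hN : g ^ N * x * (g ^ N)⁻¹ = x) : δ ^ N ∈ W := by
  have key : ∀ n : ℕ, ∃ w ∈ W, g ^ n * x * (g ^ n)⁻¹ = x * δ ^ n * w := by
    intro n
    induction n with
    | zero => exact ⟨1, one_mem _, by simp⟩
    | succ n ih =>
      obtain ⟨w, hw, e⟩ := ih
      set a := δ⁻¹ * (g * δ * g⁻¹) with ha
      have hδg : g * δ * g⁻¹ = δ * a := by rw [ha]; group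
      have hca : Commute δ a := hV δ hδV a (hWV hδ)
      refine ⟨a ^ n * (g * w * g⁻¹), W.mul_mem (W.pow_mem hδ n) (hW w hw), ?_⟩
      calc g ^ (n + 1) * x * (g ^ (n + 1))⁻¹ = g * (g ^ n * x * (g ^ n)⁻¹) * g⁻¹ := by
            rw [pow_succ']; group
        _ = (g * x * g⁻¹) * (g * δ ^ n * g⁻¹) * (g * w * g⁻¹) := by rw [e]; group
        _ = (x * δ) * (δ * a) ^ n * (g * w * g⁻¹) := by
            rw [← conj_pow, hδg]
            congr 2
            rw [← hx]; group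
        _ = x * (δ * δ ^ n) * (a ^ n * (g * w * g⁻¹)) := by rw [hca.mul_pow]; group
        _ = x * δ ^ (n + 1) * (a ^ n * (g * w * g⁻¹)) := by rw [pow_succ']
  obtain ⟨w, hw, e⟩ := key N
  rw [hN, mul_assoc, left_eq_mul] at e
  rw [eq_inv_of_mul_eq_one_left e]
  exact W.inv_mem hw

/-- in a 2-group an odd power determines the element -/
theorem mem_of_pow_odd_mem {M W : Subgroup G} (hM : IsPGroup 2 M) {δ : G} (hδ : δ ∈ M) {N : ℕ}
    (hN : Odd N) (h : δ ^ N ∈ W) : δ ∈ W := by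
  obtain ⟨j, hj⟩ := hM ⟨δ, hδ⟩
  have hj' : δ ^ 2 ^ j = 1 := congrArg Subtype.val hj
  have hc : N.Coprime (orderOf δ) :=
    Nat.Coprime.coprime_dvd_right (orderOf_dvd_of_pow_eq_one hj')
      ((Nat.coprime_two_right.2 hN).pow_right _)
  obtain ⟨i, hi⟩ := exists_pow_eq_self_of_coprime hc
  rw [← hi]
  exact W.pow_mem h _

variable [Finite G]

/-- the existence of a witness -/
theorem exists_wit {M : Subgroup G} (hM : IsPGroup 2 M) (hidx : ¬ 2 ∣ M.index)
    (hcl : ClassTwo M) (hNM : normalizer (M : Set G) ≤ M)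
    (hnc : ¬ Cfsg.HasNormalPComplement 2 G) : ∃ D W k, Wit M D W k := by
  haveI : Fact (Nat.Prime 2) := ⟨Nat.prime_two⟩
  let S : Sylow 2 G := hM.toSylow hidx
  have hS : (S : Subgroup G) = M := rfl
  have hsc : Cfsg.IsStronglyClosed M (S : Subgroup G) := ⟨le_of_eq hS.symm, fun x _ g h => h⟩
  obtain ⟨U, hUM, hCU, hU⟩ : ∃ U : Subgroup G, U ≤ M ∧ M ⊓ centralizer (U : Set G) ≤ U ∧
      ¬ Cfsg.HasNormalPComplement 2 ↥(normalizer (U : Set G)) := by
    by_contra hno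
    push Not at hno
    exact hnc ((Cfsg.Agent.S3839.result S M hsc).2 hno)
  set H := normalizer (U : Set G) with hH
  set V := U ⊓ centralizer (U : Set G) with hV
  have hzV : zc M ≤ V := fun z hz => by
    obtain ⟨hzM, hzc⟩ := mem_zc.1 hz
    have hc : z ∈ centralizer (U : Set G) := mem_centralizer_iff.2 fun u hu => hzc u (hUM hu)
    exact Subgroup.mem_inf.2 ⟨hCU (Subgroup.mem_inf.2 ⟨hzM, hc⟩), hc⟩
  have hcom : ∀ m ∈ M, ∀ u ∈ M, m * u * m⁻¹ * u⁻¹ ∈ V := fun m hm u hu => hzV (hcl m hm u hu)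
  have hMH : M ≤ H := fun m hm => mem_normalizer_fintype fun u hu => by
    have h1 := U.mul_mem (Subgroup.mem_inf.1 (hcom m hm u (hUM hu))).1 hu
    rwa [inv_mul_cancel_right] at h1
  have hUH : U ≤ H := le_normalizer
  have hVcomm : ∀ a ∈ V, ∀ b ∈ V, a * b = b * a := fun a ha b hb =>
    (mem_centralizer_iff.1 (Subgroup.mem_inf.1 hb).2 a (Subgroup.mem_inf.1 ha).1)
  have hVM : V ≤ M := inf_le_left.trans hUM
  have hVU : ∀ v ∈ V, ∀ u ∈ U, u * v = v * u := fun v hv u hu =>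
    mem_centralizer_iff.1 (Subgroup.mem_inf.1 hv).2 u hu
  have hHU : ∀ h ∈ H, ∀ u ∈ U, h * u * h⁻¹ ∈ U := fun h hh u hu =>
    (mem_normalizer_iff.1 hh u).1 hu
  have hHV : ∀ h ∈ H, ∀ v ∈ V, h * v * h⁻¹ ∈ V := fun h hh v hv => by
    refine Subgroup.mem_inf.2 ⟨hHU h hh v (Subgroup.mem_inf.1 hv).1,
      mem_centralizer_iff.2 fun u hu => ?_⟩
    have h1 := hVU v hv _ (hHU h⁻¹ (H.inv_mem hh) u hu)
    rw [inv_inv] at h1
    calc u * (h * v * h⁻¹) = h * ((h⁻¹ * u * h) * v) * h⁻¹ := by group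
      _ = h * v * h⁻¹ * u := by rw [h1]; group
  -- the quotient by the centralizer
  let Cn : Subgroup H := (centralizer (U : Set G)).subgroupOf H
  haveI hCn : Cn.Normal := by
    refine ⟨fun c hc h => mem_subgroupOf.2 (mem_centralizer_iff.2 fun u hu => ?_)⟩
    have h1 := mem_centralizer_iff.1 (mem_subgroupOf.1 hc) _ (hHU (h : G)⁻¹ (H.inv_mem h.2) u hu)
    rw [inv_inv] at h1
    simp only [Subgroup.coe_mul, InvMemClass.coe_inv]
    calc u * ((h : G) * c * (h : G)⁻¹) = h * (((h : G)⁻¹ * u * h) * c) * (h : G)⁻¹ := by group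
      _ = h * c * (h : G)⁻¹ * u := by rw [h1]; group
  let π : H →* H ⧸ Cn := QuotientGroup.mk' Cn
  have hπs : Function.Surjective π := QuotientGroup.mk'_surjective Cn
  have hπ1 : ∀ h : H, π h = 1 ↔ (h : G) ∈ centralizer (U : Set G) := fun h =>
    (QuotientGroup.eq_one_iff h).trans mem_subgroupOf
  have hπcomm : ∀ a b : H, π a * π b = π b * π a ↔
      (a : G) * b * (a : G)⁻¹ * (b : G)⁻¹ ∈ centralizer (U : Set G) := fun a b => by
    have e : (a : G) * b * (a : G)⁻¹ * (b : G)⁻¹ = ((a * b * a⁻¹ * b⁻¹ : H) : G) := by simp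
    rw [e, ← hπ1, map_mul, map_mul, map_mul, map_inv, map_inv, mul_inv_eq_one, mul_inv_eq_iff_eq_mul]
  let PH : Sylow 2 H := S.subtype hMH
  have hPH : ∀ h : H, h ∈ (PH : Subgroup H) ↔ (h : G) ∈ M := fun h => Iff.rfl
  let SQ : Sylow 2 (H ⧸ Cn) := PH.mapSurjective hπs
  have hSQ : ∀ q : H ⧸ Cn, q ∈ (SQ : Subgroup (H ⧸ Cn)) ↔ ∃ m : H, (m : G) ∈ M ∧ π m = q :=
    fun q => by
      rw [Sylow.coe_mapSurjective]
      exact ⟨fun ⟨m, hm, e⟩ => ⟨m, hm, e⟩, fun ⟨m, hm, e⟩ => ⟨m, hm, e⟩⟩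
  have hSQab : ∀ a ∈ (SQ : Subgroup (H ⧸ Cn)), ∀ b ∈ (SQ : Subgroup (H ⧸ Cn)), a * b = b * a := by
    intro a ha b hb
    obtain ⟨x, hx, rfl⟩ := (hSQ a).1 ha
    obtain ⟨y, hy, rfl⟩ := (hSQ b).1 hb
    rw [hπcomm]
    exact mem_centralizer_iff.2 fun u hu => (mem_zc.1 (hcl x hx y hy)).2 u (hUM hu)
  have hMmax : ∀ T : Subgroup G, IsPGroup 2 T → M ≤ T → T ≤ M := fun T hT hle =>
    (S.3 hT hle).le
  have hNSQ : normalizer ((SQ : Subgroup (H ⧸ Cn)) : Set (H ⧸ Cn)) ≤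
      (SQ : Subgroup (H ⧸ Cn)) := by
    intro q hq
    obtain ⟨h, rfl⟩ := hπs q
    let L : Subgroup G := ((SQ : Subgroup (H ⧸ Cn)).comap π).map H.subtype
    obtain ⟨l, hl, hlh⟩ := frattini_max (L := L) (R := M) hM
      (fun m hm => ⟨⟨m, hMH hm⟩, mem_comap.2 ((hSQ _).2 ⟨_, hm, rfl⟩), rfl⟩)
      (fun T hT hle _ => hMmax T hT hle) (h := (h : G)) (by
        rintro _ ⟨x, hx, rfl⟩
        refine ⟨h * x * h⁻¹, mem_comap.2 ?_, by simp⟩
        rw [map_mul, map_mul, map_inv]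
        exact (mem_normalizer_iff.1 hq _).1 hx)
    obtain ⟨l', hl', rfl⟩ := hl
    have hn := hNM (mem_normalizer_fintype (S := (M : Set G)) hlh)
    have h2 : π (l' * h) ∈ (SQ : Subgroup (H ⧸ Cn)) :=
      (hSQ _).2 ⟨l' * h, hn, rfl⟩
    rw [map_mul] at h2
    exact (mul_mem_cancel_left hl').1 h2
  have hP : normalizer ((SQ : Subgroup (H ⧸ Cn)) : Set (H ⧸ Cn)) ≤
      centralizer ((SQ : Subgroup (H ⧸ Cn)) : Set (H ⧸ Cn)) :=
    fun q hq => mem_centralizer_iff.2 fun s hs => hSQab s hs q (hNSQ hq)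
  set K := (MonoidHom.transferSylow SQ hP).ker with hK
  haveI : K.Normal := MonoidHom.normal_ker _
  have hKc : K.IsComplement' (SQ : Subgroup (H ⧸ Cn)) :=
    MonoidHom.ker_transferSylow_isComplement' SQ hP
  have hKodd : ∀ q ∈ K, Odd (orderOf q) := fun q hq => by
    refine Nat.not_even_iff_odd.1 fun he => ?_
    have h1 : orderOf q ∣ Nat.card K := Subgroup.orderOf_dvd_natCard K hq
    exact MonoidHom.not_dvd_card_ker_transferSylow SQ hP
      ((even_iff_two_dvd.1 he).trans h1)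
  -- 2-elements centralizing U lie in U
  have htwo : ∀ g : G, g ∈ centralizer (U : Set G) → (∃ j : ℕ, g ^ 2 ^ j = 1) → g ∈ U := by
    intro g hg hj
    have hgH : g ∈ H := mem_normalizer_fintype fun u hu => by
      rw [← mem_centralizer_iff.1 hg u hu]; simpa using hu
    have hz : IsPGroup 2 (zpowers (⟨g, hgH⟩ : H)) := by
      obtain ⟨j, hj⟩ := hj
      refine IsPGroup.of_card (n := (orderOf (⟨g, hgH⟩ : H)).factorization 2) ?_
      rw [Nat.card_zpowers]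
      have hd : orderOf (⟨g, hgH⟩ : H) ∣ 2 ^ j := by
        rw [Subgroup.orderOf_mk]; exact orderOf_dvd_of_pow_eq_one hj
      obtain ⟨i, -, hi⟩ := (Nat.dvd_prime_pow Nat.prime_two).1 hd
      rw [hi, Nat.prime_two.factorization_pow, Finsupp.single_eq_same]
    obtain ⟨Q, hQ⟩ := hz.exists_le_sylow
    obtain ⟨h, hh⟩ := MulAction.exists_smul_eq H Q PH
    have h1 : h * ⟨g, hgH⟩ * h⁻¹ ∈ (PH : Subgroup H) := by
      rw [← hh, ← SetLike.mem_coe, Sylow.coe_subgroup_smul, Subgroup.coe_pointwise_smul]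
      exact ⟨_, hQ (mem_zpowers _), rfl⟩
    have h2 : (h : G) * g * (h : G)⁻¹ ∈ centralizer (U : Set G) := by
      have := hCn.conj_mem ⟨g, hgH⟩ (mem_subgroupOf.2 hg) h
      simpa using mem_subgroupOf.1 this
    have h3 : (h : G) * g * (h : G)⁻¹ ∈ U :=
      hCU (Subgroup.mem_inf.2 ⟨by simpa using (hPH _).1 h1, h2⟩)
    exact (mem_normalizer_iff.1 h.2 g).2 h3
  have hKne : K ≠ ⊥ := by
    intro hKb
    apply hU
    rw [Cfsg.Lib.Transfer.hasNormalPComplement_iff_pResidual]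
    have hall : ∀ q : H ⧸ Cn, q ∈ (SQ : Subgroup (H ⧸ Cn)) := by
      have := hKc.sup_eq_top
      rw [hKb, bot_sup_eq] at this
      exact fun q => this ▸ mem_top q
    have hoddC : ∀ x : H, (orderOf x).Coprime 2 → x ∈ Cn := by
      intro x hx
      rw [← QuotientGroup.eq_one_iff]
      obtain ⟨j, hj⟩ := SQ.2 ⟨π x, hall _⟩
      have hj' : π x ^ 2 ^ j = 1 := congrArg Subtype.val hj
      exact orderOf_eq_one_iff.1 (Nat.eq_one_of_dvd_coprimes (hx.pow_right j)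
        (orderOf_map_dvd π x) (orderOf_dvd_of_pow_eq_one hj'))
    obtain ⟨R⟩ : Nonempty (Sylow 2 Cn) := inferInstance
    have hRc : ∀ r ∈ (R : Subgroup Cn), ∀ c : Cn, r * c = c * r := by
      intro r hr c
      obtain ⟨j, hj⟩ := R.2 ⟨r, hr⟩
      have hj' : r ^ 2 ^ j = 1 := congrArg Subtype.val hj
      have hjG : ((r : H) : G) ^ 2 ^ j = 1 := by
        have := congrArg (fun y : Cn => ((y : H) : G)) hj'
        simpa using this
      have h1 := htwo _ (mem_subgroupOf.1 r.2) ⟨j, hjG⟩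
      exact Subtype.ext (Subtype.ext (mem_centralizer_iff.1 (mem_subgroupOf.1 c.2) _ h1))
    have hR : normalizer ((R : Subgroup Cn) : Set Cn) ≤ centralizer ((R : Subgroup Cn) : Set Cn) :=
      fun c _ => mem_centralizer_iff.2 fun r hr => hRc r hr c
    set N0 := (MonoidHom.transferSylow R hR).ker with hN0
    haveI : N0.Normal := MonoidHom.normal_ker _
    have hN0c : N0.IsComplement' (R : Subgroup Cn) :=
      MonoidHom.ker_transferSylow_isComplement' R hR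
    obtain ⟨hcp, i, hi⟩ := Cfsg.Lib.Transfer.complement_props hN0c
    have hle : Cfsg.pResidual 2 H ≤ N0.map Cn.subtype := (closure_le _).2 fun x hx => by
      have hxC := hoddC x hx
      exact ⟨⟨x, hxC⟩, (Cfsg.Lib.Transfer.mem_iff_coprime_orderOf hcp hi _).2
        (by rw [Subgroup.orderOf_mk]; exact hx), rfl⟩
    exact Nat.Coprime.coprime_dvd_left (card_dvd_of_le hle)
      (by rwa [card_map_of_injective Cn.subtype_injective])
  -- trivial on the involutions of V and on U / V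
  have htriv : ∀ h ∈ H, ∀ N : ℕ, Odd N → h ^ N ∈ centralizer (U : Set G) →
      (∀ v ∈ V, v * v = 1 → h * v * h⁻¹ = v) → (∀ u ∈ U, h * u * h⁻¹ * u⁻¹ ∈ V) →
      h ∈ centralizer (U : Set G) := by
    intro h hh N hN hpow h1 h2
    have hfix : ∀ x ∈ U, h ^ N * x * (h ^ N)⁻¹ = x := fun x hx => by
      rw [← mem_centralizer_iff.1 hpow x hx, mul_inv_cancel_right]
    have hv : ∀ v ∈ V, h * v * h⁻¹ = v := by
      intro v hv
      by_contra hne
      set w := v⁻¹ * (h * v * h⁻¹) with hw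
      have hwV : w ∈ V := V.mul_mem (V.inv_mem hv) (hHV h hh v hv)
      have hw1 : w ≠ 1 := fun e => hne (by rwa [hw, inv_mul_eq_one, eq_comm] at e)
      obtain ⟨j, hj⟩ := IsPGroup.iff_orderOf.1 hM ⟨w, hVM hwV⟩
      rw [Subgroup.orderOf_mk] at hj
      obtain ⟨j, rfl⟩ : ∃ i, j = i + 1 := ⟨j - 1, by
        rcases j with _ | j
        · exact absurd (orderOf_eq_one_iff.1 (by rw [hj, pow_zero])) hw1
        · simp⟩
      set e := w ^ 2 ^ j with he
      have he1 : e * e = 1 := by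
        rw [he, ← pow_add, ← two_mul, ← pow_succ', ← hj, pow_orderOf_eq_one]
      have hene : e ≠ 1 := fun e1 => by
        have := orderOf_dvd_of_pow_eq_one e1
        rw [hj, Nat.pow_dvd_pow_iff_le_right (le_refl 2)] at this
        omega
      set v' := v ^ 2 ^ j with hv'
      have hv'V : v' ∈ V := V.pow_mem hv _
      have hev : v'⁻¹ * (h * v' * h⁻¹) = e := by
        have hc : Commute v⁻¹ (h * v * h⁻¹) :=
          hVcomm _ (V.inv_mem hv) _ (hHV h hh v hv)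
        rw [he, hw, hc.mul_pow, conj_pow, inv_pow]
      have hpw := iterate_conj hVcomm bot_le (V.pow_mem hwV _) hev
        (fun x hx => by rw [mem_bot] at hx ⊢; rw [hx]; group)
        (by rw [← he, h1 e (V.pow_mem hwV _) he1, inv_mul_cancel]; exact one_mem _)
        (hfix v' (Subgroup.mem_inf.1 hv'V).1)
      exact hene ((mem_bot).1 (mem_of_pow_odd_mem hM (hVM (V.pow_mem hwV _)) hN hpw))
    refine mem_centralizer_iff.2 fun u hu => ?_
    set δ := u⁻¹ * (h * u * h⁻¹) with hδ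
    have hδV : δ ∈ V := by
      have h3 := hHV u⁻¹ (H.inv_mem (hUH hu)) _ (h2 u hu)
      rw [inv_inv] at h3
      rw [hδ]
      convert h3 using 1
      group
    have hpw := iterate_conj hVcomm bot_le hδV hδ.symm
      (fun x hx => by rw [mem_bot] at hx ⊢; rw [hx]; group)
      (by rw [hv δ hδV, inv_mul_cancel]; exact one_mem _) (hfix u hu)
    have := (mem_bot).1 (mem_of_pow_odd_mem hM (hVM hδV) hN hpw)
    rw [hδ, inv_mul_eq_one] at this
    calc u * h = h * u * h⁻¹ * h := by rw [← this]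
      _ = h * u := by group
  -- squares of SQ centralize K
  have hsq : ∀ s ∈ (SQ : Subgroup (H ⧸ Cn)), ∀ q ∈ K, s * s * q = q * (s * s) := by
    intro s hs q hq
    obtain ⟨m, hm, rfl⟩ := (hSQ s).1 hs
    obtain ⟨g, rfl⟩ := hπs q
    set r : H := m * m * g * (m * m)⁻¹ * g⁻¹ with hr
    have hrK : π r ∈ K := by
      rw [hr, map_mul, map_inv, map_mul, map_mul, map_inv]
      exact K.mul_mem ((‹K.Normal›).conj_mem _ hq _) (K.inv_mem hq)
    have hfixm : ∀ v ∈ V, v * v = 1 →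
        ((m : G) * m) * v * ((m : G) * m)⁻¹ = v := by
      intro v hv hv2
      set c := (m : G) * v * (m : G)⁻¹ * v⁻¹ with hc
      have hcz : c ∈ zc M := hcl _ hm v (hVM hv)
      have hcm : (m : G) * c = c * m := (mem_zc.1 hcz).2 _ hm
      have hcv : Commute c v := hVcomm c (hzV hcz) v hv
      have hmv : (m : G) * v * (m : G)⁻¹ = c * v := by rw [hc]; group
      have hmvV : c * v ∈ V := V.mul_mem (hzV hcz) hv
      have hc2 : c * c = 1 := by
        have h1 : (c * v) * (c * v) = 1 := by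
          rw [← hmv]
          calc (m : G) * v * (m : G)⁻¹ * (m * v * (m : G)⁻¹) = m * (v * v) * (m : G)⁻¹ := by group
            _ = 1 := by rw [hv2]; group
        calc c * c = c * c * (v * v) := by rw [hv2, mul_one]
          _ = c * (c * v) * v := by group
          _ = c * (v * c) * v := by rw [hcv.eq]
          _ = c * v * (c * v) := by group
          _ = 1 := h1
      calc ((m : G) * m) * v * ((m : G) * m)⁻¹ = m * (m * v * (m : G)⁻¹) * (m : G)⁻¹ := by group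
        _ = (m * c) * v * (m : G)⁻¹ := by rw [hmv]; group
        _ = c * (m * v * (m : G)⁻¹) := by rw [hcm]; group
        _ = c * c * v := by rw [hmv]; group
        _ = v := by rw [hc2, one_mul]
    have hr1 : (r : G) ∈ centralizer (U : Set G) := by
      obtain ⟨N, hN, hNr⟩ : ∃ N, Odd N ∧ π r ^ N = 1 :=
        ⟨_, hKodd _ hrK, pow_orderOf_eq_one _⟩
      have hre : (r : G) = (m : G) * m * g * ((m : G) * m)⁻¹ * (g : G)⁻¹ := by rw [hr]; simp
      set a := (m : G) * m with ha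
      have haM : a ∈ M := M.mul_mem hm hm
      refine htriv r r.2 N hN ?_ ?_ ?_
      · rw [← SubgroupClass.coe_pow, ← hπ1, map_pow, hNr]
      · intro v hv hv2
        set v1 := (g : G)⁻¹ * v * g with hv1
        have hv1V : v1 ∈ V := by
          have := hHV _ (H.inv_mem g.2) v hv
          rwa [inv_inv] at this
        have h3 : v1 * v1 = 1 := by
          calc v1 * v1 = (g : G)⁻¹ * (v * v) * g := by rw [hv1]; group
            _ = 1 := by rw [hv2]; group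
        have h4 : a⁻¹ * v1 * a = v1 := by
          conv_lhs => rw [← hfixm v1 hv1V h3]
          rw [ha]; group
        calc (r : G) * v * (r : G)⁻¹ = a * (g * (a⁻¹ * v1 * a) * (g : G)⁻¹) * a⁻¹ := by
              rw [hre, hv1]; group
          _ = a * v * a⁻¹ := by rw [h4, hv1]; group
          _ = v := hfixm v hv hv2
      · intro u hu
        set u1 := (g : G)⁻¹ * u * g with hu1
        have hu1U : u1 ∈ U := by
          have := hHU _ (H.inv_mem g.2) u hu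
          rwa [inv_inv] at this
        set e := a⁻¹ * u1 * a * u1⁻¹ with he
        have heV : e ∈ V := by
          have := hcom a⁻¹ (M.inv_mem haM) u1 (hUM hu1U)
          rwa [inv_inv] at this
        set f := (g : G) * e * (g : G)⁻¹ with hf
        have hfV : f ∈ V := hHV _ g.2 e heV
        have h5 : (r : G) * u * (r : G)⁻¹ * u⁻¹ =
            (a * f * a⁻¹) * (a * u * a⁻¹ * u⁻¹) := by
          rw [hre, hf, he, hu1]; group
        rw [h5]
        exact V.mul_mem (hHV a (hMH haM) f hfV) (hcom a haM u (hUM hu))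
    have := (hπ1 r).2 hr1
    rw [hr, map_mul, map_inv, map_mul, map_mul, map_inv, mul_inv_eq_one, mul_inv_eq_iff_eq_mul,
      map_mul] at this
    exact this
  -- a minimal invariant subgroup of K
  obtain ⟨X, ⟨hXK, hXb, hXinv⟩, hXmin⟩ := WellFounded.has_min
    (wellFounded_lt (α := Subgroup (H ⧸ Cn)))
    {X | X ≤ K ∧ X ≠ ⊥ ∧ ∀ s ∈ (SQ : Subgroup (H ⧸ Cn)), ∀ x ∈ X, s * x * s⁻¹ ∈ X}
    ⟨K, le_refl _, hKne, fun s _ x hx => (‹K.Normal›).conj_mem x hx s⟩
  have hdich : ∀ s ∈ (SQ : Subgroup (H ⧸ Cn)),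
      (∀ x ∈ X, s * x * s⁻¹ = x) ∨ (∀ x ∈ X, s * x * s⁻¹ = x⁻¹) := by
    intro s hs
    set Y := X ⊓ centralizer {s} with hY
    by_cases hYb : Y = ⊥
    · right
      have hss : ∀ x ∈ X, s * (s * x * s⁻¹) * s⁻¹ = x := fun x hx => by
        calc s * (s * x * s⁻¹) * s⁻¹ = s * s * x * (s * s)⁻¹ := by group
          _ = x := by rw [hsq s hs x (hXK hx)]; group
      let f : X → X := fun x =>
        ⟨(x : H ⧸ Cn)⁻¹ * (s * x * s⁻¹), X.mul_mem (X.inv_mem x.2) (hXinv s hs x x.2)⟩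
      have hf : Function.Injective f := by
        intro x y hxy
        have h1 : (x : H ⧸ Cn)⁻¹ * (s * x * s⁻¹) = (y : H ⧸ Cn)⁻¹ * (s * y * s⁻¹) :=
          congrArg Subtype.val hxy
        have h2 : (y : H ⧸ Cn) * (x : H ⧸ Cn)⁻¹ ∈ Y := by
          refine Subgroup.mem_inf.2 ⟨X.mul_mem y.2 (X.inv_mem x.2),
            mem_centralizer_singleton_iff.2 ?_⟩
          calc (y : H ⧸ Cn) * (x : H ⧸ Cn)⁻¹ * s
              = y * ((x : H ⧸ Cn)⁻¹ * (s * x * s⁻¹)) * (s * (x : H ⧸ Cn)⁻¹) := by group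
            _ = s * (y * (x : H ⧸ Cn)⁻¹) := by rw [h1]; group
        rw [hYb, mem_bot, mul_inv_eq_one] at h2
        exact Subtype.ext h2.symm
      intro y hy
      obtain ⟨⟨x, hx⟩, hxy⟩ := (Finite.injective_iff_surjective.1 hf) ⟨y, hy⟩
      have h1 : x⁻¹ * (s * x * s⁻¹) = y := congrArg Subtype.val hxy
      rw [← h1]
      calc s * (x⁻¹ * (s * x * s⁻¹)) * s⁻¹
          = (s * x * s⁻¹)⁻¹ * (s * (s * x * s⁻¹) * s⁻¹) := by group
        _ = (x⁻¹ * (s * x * s⁻¹))⁻¹ := by rw [hss x hx]; group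
    · left
      have hinv : ∀ t ∈ (SQ : Subgroup (H ⧸ Cn)), ∀ x ∈ Y, t * x * t⁻¹ ∈ Y := by
        intro t ht x hx
        obtain ⟨hxX, hxs⟩ := Subgroup.mem_inf.1 hx
        refine Subgroup.mem_inf.2 ⟨hXinv t ht x hxX, mem_centralizer_singleton_iff.2 ?_⟩
        have h1 := mem_centralizer_singleton_iff.1 hxs
        have h2 := hSQab t ht s hs
        calc t * x * t⁻¹ * s = t * x * (t⁻¹ * (s * t) * t⁻¹) := by group
          _ = t * x * (t⁻¹ * (t * s) * t⁻¹) := by rw [h2]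
          _ = t * (x * s) * t⁻¹ := by group
          _ = t * s * x * t⁻¹ := by rw [h1]; group
          _ = s * (t * x * t⁻¹) := by rw [h2]; group
      have hYX : Y = X := eq_of_le_of_not_lt inf_le_left
        (hXmin Y ⟨inf_le_left.trans hXK, hYb, hinv⟩)
      intro x hx
      have := mem_centralizer_singleton_iff.1 (hYX.symm ▸ hx : x ∈ Y).2
      rw [← this, mul_inv_cancel_right]
  obtain ⟨kb, hkbX, hkb1⟩ := (Subgroup.ne_bot_iff_exists_ne_one.1 hXb : ∃ a : X, a ≠ 1).elim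
    fun a ha => (⟨a, a.2, fun e => ha (Subtype.ext e)⟩ : ∃ a ∈ X, a ≠ (1 : H ⧸ Cn))
  obtain ⟨s0, hs0, hs0k⟩ : ∃ s ∈ (SQ : Subgroup (H ⧸ Cn)), s * kb * s⁻¹ ≠ kb := by
    by_contra hno
    push Not at hno
    have h1 : kb ∈ normalizer ((SQ : Subgroup (H ⧸ Cn)) : Set (H ⧸ Cn)) :=
      mem_normalizer_fintype fun s hs => by
        have := hno s hs
        rw [mul_inv_eq_iff_eq_mul] at this
        rw [← this, mul_inv_cancel_right]
        exact hs
    exact hkb1 (mem_bot.1 (hKc.disjoint.le_bot (Subgroup.mem_inf.2 ⟨hXK hkbX, hNSQ h1⟩)))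
  let E : Subgroup (H ⧸ Cn) := (SQ : Subgroup (H ⧸ Cn)) ⊓ centralizer {kb}
  let L : Subgroup G := (E.comap π).map H.subtype
  have hL : ∀ h : H, (h : G) ∈ L ↔ π h ∈ E := fun h =>
    (mem_map_iff_mem H.subtype_injective).trans mem_comap
  set D := M ⊓ L with hD
  obtain ⟨hl0, rfl⟩ := hπs kb
  obtain ⟨l, hlL, hln⟩ := frattini_max (L := L) (R := D) (hM.to_le inf_le_left) inf_le_right
    (by
      intro T hT hDT hTL t ht
      obtain ⟨x, hx, rfl⟩ := hTL ht
      obtain ⟨m, hm, hmx⟩ := (hSQ _).1 (Subgroup.mem_inf.1 (mem_comap.1 hx)).1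
      have hmD : (m : G) ∈ D :=
        Subgroup.mem_inf.2 ⟨hm, (hL m).2 (hmx ▸ mem_comap.1 hx)⟩
      set c := x * m⁻¹ with hc
      have hcC : (c : G) ∈ centralizer (U : Set G) :=
        (hπ1 c).1 (by rw [hc, map_mul, map_inv, hmx, mul_inv_cancel])
      have hcT : (c : G) ∈ T := by
        rw [hc]; simpa using T.mul_mem ht (T.inv_mem (hDT hmD))
      obtain ⟨j, hj⟩ := hT ⟨_, hcT⟩
      have hcU := htwo _ hcC ⟨j, congrArg Subtype.val hj⟩
      have hcD : (c : G) ∈ D := by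
        refine Subgroup.mem_inf.2 ⟨hUM hcU, (hL c).2 ?_⟩
        rw [(hπ1 c).2 hcC]; exact one_mem _
      have : (x : G) = (c : G) * m := by rw [hc]; simp
      show (x : G) ∈ D
      rw [this]; exact D.mul_mem hcD hmD)
    (h := (hl0 : G)) (by
      rintro _ ⟨x, hx, rfl⟩
      refine ⟨hl0 * x * hl0⁻¹, mem_comap.2 ?_, by simp⟩
      rw [map_mul, map_mul, map_inv,
        ← mem_centralizer_singleton_iff.1 (Subgroup.mem_inf.1 hx).2, mul_inv_cancel_right]
      exact hx)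
  obtain ⟨l', hl', rfl⟩ := hlL
  set n : H := l' * hl0 with hn
  obtain ⟨s, N, hN, hord⟩ : ∃ s N, Odd N ∧ orderOf n = 2 ^ s * N := by
    obtain ⟨s, N, hN, e⟩ := Nat.exists_eq_two_pow_mul_odd (orderOf_pos n).ne'
    exact ⟨s, N, hN, e⟩
  set k : H := n ^ 2 ^ s with hk
  have hkN : k ^ N = 1 := by rw [hk, ← pow_mul, ← hord, pow_orderOf_eq_one]
  have hkD : ∀ x ∈ D, (k : G) * x * (k : G)⁻¹ ∈ D := by
    have h1 : (n : G) ∈ normalizer (D : Set G) := mem_normalizer_fintype fun x hx => by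
      simpa [hn] using hln x hx
    have h2 : (k : G) ∈ normalizer (D : Set G) := by
      rw [hk, SubgroupClass.coe_pow]; exact pow_mem h1 _
    exact fun x hx => (mem_normalizer_iff.1 h2 x).1 hx
  set kq := π hl0 with hkq
  have hkqK : kq ∈ K := hXK hkbX
  have hl'E : π l' ∈ E := hl'
  have hce : Commute (π l') kq :=
    mem_centralizer_singleton_iff.1 (Subgroup.mem_inf.1 hl'E).2
  have he1 : π l' ^ 2 ^ s = 1 := by
    obtain ⟨t, ht⟩ := SQ.2 ⟨π l', (Subgroup.mem_inf.1 hl'E).1⟩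
    have ht' : π l' ^ 2 ^ t = 1 := congrArg Subtype.val ht
    have h1 : π l' ^ (2 ^ s * N * orderOf kq) = 1 := by
      have h0 : π n ^ (2 ^ s * N) = 1 := by rw [← map_pow, ← hord, pow_orderOf_eq_one, map_one]
      rw [hn, map_mul, ← hkq, hce.mul_pow] at h0
      have h2 := congrArg (fun y => y ^ orderOf kq) h0
      simp only [one_pow] at h2
      rw [(hce.pow_pow _ _).mul_pow, ← pow_mul, ← pow_mul, mul_comm _ (orderOf kq),
        pow_mul kq, pow_orderOf_eq_one, one_pow, mul_one] at h2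
      rwa [mul_comm]
    apply orderOf_eq_one_iff.1
    refine Nat.eq_one_of_dvd_coprimes (((hN.mul (hKodd _ hkqK)).coprime_two_right).pow_right t)
      (orderOf_dvd_of_pow_eq_one ?_) ((orderOf_pow_dvd _).trans (orderOf_dvd_of_pow_eq_one ht'))
    rw [← pow_mul, ← mul_assoc]; exact h1
  have hπk : π k = kq ^ 2 ^ s := by
    rw [hk, map_pow, hn, map_mul, ← hkq, hce.mul_pow, he1, one_mul]
  have hk1 : π k ≠ 1 := fun e => hkb1 (by
    rw [hπk] at e
    exact orderOf_eq_one_iff.1 (Nat.eq_one_of_dvd_coprimes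
      ((hKodd _ hkqK).coprime_two_right.pow_right s) dvd_rfl (orderOf_dvd_of_pow_eq_one e)))
  -- index two
  have hDmem : ∀ m : H, (m : G) ∈ M → ((m : G) ∈ D ↔ π m * kq * (π m)⁻¹ = kq) := by
    intro m hm
    rw [hD, Subgroup.mem_inf, hL, Subgroup.mem_inf, mem_centralizer_singleton_iff,
      mul_inv_eq_iff_eq_mul]
    exact ⟨fun h => h.2.2, fun h => ⟨hm, (hSQ _).2 ⟨m, hm, rfl⟩, h⟩⟩
  have hinvk : ∀ m : H, (m : G) ∈ M → (m : G) ∉ D → π m * kq * (π m)⁻¹ = kq⁻¹ := by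
    intro m hm hmD
    rcases hdich (π m) ((hSQ _).2 ⟨m, hm, rfl⟩) with h | h
    · exact absurd ((hDmem m hm).2 (h _ hkbX)) hmD
    · exact h _ hkbX
  obtain ⟨m0, hm0, rfl⟩ := (hSQ s0).1 hs0
  have hm0D : (m0 : G) ∉ D := fun h => hs0k ((hDmem m0 hm0).1 h)
  -- the group W
  let f : G → G := fun v => v⁻¹ * ((k : G) * v * (k : G)⁻¹)
  have hfV : ∀ v ∈ V, f v ∈ V := fun v hv => V.mul_mem (V.inv_mem hv) (hHV _ k.2 v hv)
  have hfmul : ∀ a ∈ V, ∀ b ∈ V, f (a * b) = f a * f b := by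
    intro a ha b hb
    have h1 := hVcomm b⁻¹ (V.inv_mem hb) (f a) (hfV a ha)
    show (a * b)⁻¹ * ((k : G) * (a * b) * (k : G)⁻¹) = f a * f b
    calc (a * b)⁻¹ * ((k : G) * (a * b) * (k : G)⁻¹)
        = b⁻¹ * f a * ((k : G) * b * (k : G)⁻¹) := by simp only [f]; group
      _ = f a * f b := by rw [h1]; simp only [f]; group
  let W : Subgroup G :=
    { carrier := f '' (V : Set G)
      mul_mem' := by
        rintro _ _ ⟨a, ha, rfl⟩ ⟨b, hb, rfl⟩
        exact ⟨a * b, V.mul_mem ha hb, hfmul a ha b hb⟩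
      one_mem' := ⟨1, one_mem _, by simp [f]⟩
      inv_mem' := by
        rintro _ ⟨a, ha, rfl⟩
        refine ⟨a⁻¹, V.inv_mem ha, eq_inv_of_mul_eq_one_left ?_⟩
        rw [← hfmul _ (V.inv_mem ha) _ ha, inv_mul_cancel]
        simp [f] }
  have hfW : ∀ v ∈ V, f v ∈ W := fun v hv => ⟨v, hv, rfl⟩
  have hWV : W ≤ V := by rintro _ ⟨v, hv, rfl⟩; exact hfV v hv
  have hkW : ∀ w ∈ W, (k : G) * w * (k : G)⁻¹ ∈ W := by
    rintro _ ⟨v, hv, rfl⟩
    exact ⟨(k : G) * v * (k : G)⁻¹, hHV _ k.2 v hv, by simp only [f]; group⟩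
  have hkGN : (k : G) ^ N = 1 := by rw [← SubgroupClass.coe_pow, hkN]; rfl
  have hkfix : ∀ w ∈ W, (k : G) * w * (k : G)⁻¹ = w → w = 1 := by
    rintro _ ⟨v, hv, rfl⟩ hw
    have hpw := iterate_conj (W := ⊥) hVcomm bot_le (hfV v hv) (x := v) rfl
      (fun x hx => by rw [mem_bot] at hx ⊢; rw [hx]; group)
      (by rw [hw, inv_mul_cancel]; exact one_mem _) (N := N) (by rw [hkGN]; group)
    exact mem_bot.1 (mem_of_pow_odd_mem hM (hVM (hfV v hv)) hN hpw)
  have hUD : U ≤ D := by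
    intro u hu
    refine Subgroup.mem_inf.2 ⟨hUM hu, (hL ⟨u, hUH hu⟩).2 (Subgroup.mem_inf.2
      ⟨(hSQ _).2 ⟨⟨u, hUH hu⟩, hUM hu, rfl⟩, mem_centralizer_singleton_iff.2 ?_⟩)⟩
    -- the image of U is a normal 2-subgroup, so it commutes with K
    have hn1 : π ⟨u, hUH hu⟩ * kq * (π ⟨u, hUH hu⟩)⁻¹ * kq⁻¹ ∈
        (SQ : Subgroup (H ⧸ Cn)) ⊓ K := by
      refine Subgroup.mem_inf.2 ⟨?_,
        K.mul_mem ((‹K.Normal›).conj_mem _ hkqK _) (K.inv_mem hkqK)⟩
      have h1 : (hl0 : G) * u⁻¹ * (hl0 : G)⁻¹ ∈ U := hHU _ hl0.2 _ (U.inv_mem hu)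
      have h2 := (SQ : Subgroup (H ⧸ Cn)).mul_mem ((hSQ _).2 ⟨⟨u, hUH hu⟩, hUM hu, rfl⟩)
        ((hSQ (π ⟨_, hUH h1⟩)).2 ⟨_, hUM h1, rfl⟩)
      have e : (⟨_, hUH h1⟩ : H) = hl0 * (⟨u, hUH hu⟩ : H)⁻¹ * hl0⁻¹ := by
        ext; simp
      rw [e, map_mul, map_mul, map_inv, map_inv] at h2
      simpa only [hkq, mul_assoc] using h2
    have := hKc.symm.disjoint.le_bot hn1
    rw [mem_bot, mul_inv_eq_one, mul_inv_eq_iff_eq_mul] at this
    exact this
  have hWD : W ≤ D := hWV.trans (inf_le_left.trans hUD)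
  have hzD : zc M ≤ D := hzV.trans (inf_le_left.trans hUD)
  have hinvV : ∀ m : H, (m : G) ∈ M → (m : G) ∉ D → ∀ v ∈ V,
      (m : G) * ((k : G) * v * (k : G)⁻¹) * (m : G)⁻¹ =
        (k : G)⁻¹ * ((m : G) * v * (m : G)⁻¹) * k := by
    intro m hm hmD v hv
    have h1 : π (k * m * k) = π m := by
      have h2 : π m * π k * (π m)⁻¹ = (π k)⁻¹ := by
        rw [hπk, ← conj_pow, hinvk m hm hmD, inv_pow]
      rw [map_mul, map_mul]
      calc π k * π m * π k = π k * (π m * π k * (π m)⁻¹) * π m := by group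
        _ = π m := by rw [h2]; group
    have h3 : ((m⁻¹ * (k * m * k) : H) : G) ∈ centralizer (U : Set G) :=
      (hπ1 _).1 (by rw [map_mul, map_inv, h1, inv_mul_cancel])
    have h4 := mem_centralizer_iff.1 h3 v (Subgroup.mem_inf.1 hv).1
    simp only [Subgroup.coe_mul, InvMemClass.coe_inv] at h4
    calc (m : G) * ((k : G) * v * (k : G)⁻¹) * (m : G)⁻¹
        = (k : G)⁻¹ * m * ((m : G)⁻¹ * (k * m * k) * v) *
            ((k : G)⁻¹ * (m : G)⁻¹) := by group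
      _ = (k : G)⁻¹ * ((m : G) * v * (m : G)⁻¹) * k := by rw [← h4]; group
  have hcc : ∀ z ∈ W, z ∈ zc M → (k : G) * z * (k : G)⁻¹ ∈ zc M → z = 1 := by
    intro z hz hzz hkz
    have h1 := hinvV m0 hm0 hm0D z (hWV hz)
    rw [(mem_zc.1 hkz).2 _ hm0, (mem_zc.1 hzz).2 _ hm0] at h1
    have h2 : (k : G) ^ 2 * z * ((k : G) ^ 2)⁻¹ = z := by
      calc (k : G) ^ 2 * z * ((k : G) ^ 2)⁻¹
          = k * ((k : G) * z * (k : G)⁻¹ * m0 * (m0 : G)⁻¹) * (k : G)⁻¹ := by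
            rw [pow_two]; group
        _ = z := by rw [h1]; group
    refine hkfix z hz ?_
    obtain ⟨j, hj⟩ := hN
    have h3 : ∀ i : ℕ, ((k : G) ^ 2) ^ i * z * (((k : G) ^ 2) ^ i)⁻¹ = z := by
      intro i
      induction i with
      | zero => simp
      | succ i ih =>
        calc ((k : G) ^ 2) ^ (i + 1) * z * (((k : G) ^ 2) ^ (i + 1))⁻¹
            = ((k : G) ^ 2) ^ i * ((k : G) ^ 2 * z * ((k : G) ^ 2)⁻¹) *
                (((k : G) ^ 2) ^ i)⁻¹ := by rw [pow_succ]; group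
          _ = z := by rw [h2, ih]
    have h4 := h3 (j + 1)
    rwa [← pow_mul, show 2 * (j + 1) = N + 1 by omega, pow_succ, hkGN, one_mul] at h4
  have hkcommD : ∀ x : H, (x : G) ∈ D → π k * π x = π x * π k := by
    intro x hx
    obtain ⟨hxM, hxL⟩ := Subgroup.mem_inf.1 hx
    rw [hπk]
    exact (Commute.pow_left (mem_centralizer_singleton_iff.1
      (Subgroup.mem_inf.1 ((hL x).1 hxL)).2).symm _).eq
  have hnormal : ∀ m ∈ M, ∀ w ∈ W, m * w * m⁻¹ ∈ W := by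
    intro m hm
    by_cases hmD : m ∈ D
    · rintro _ ⟨v, hv, rfl⟩
      refine ⟨m * v * m⁻¹, hHV m (hMH hm) v hv, ?_⟩
      have h1 := (hπcomm k ⟨m, hMH hm⟩).1 (hkcommD ⟨m, hMH hm⟩ hmD)
      have h3 := mem_centralizer_iff.1 h1 (m * ((k : G) * v * (k : G)⁻¹) * m⁻¹)
        (hHU m (hMH hm) _ (Subgroup.mem_inf.1 (hHV _ k.2 v hv)).1)
      simp only [f]
      calc (m * v * m⁻¹)⁻¹ * ((k : G) * (m * v * m⁻¹) * (k : G)⁻¹)
          = m * v⁻¹ * m⁻¹ * (((k : G) * m * (k : G)⁻¹ * m⁻¹) *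
              (m * ((k : G) * v * (k : G)⁻¹) * m⁻¹)) *
              ((k : G) * m * (k : G)⁻¹ * m⁻¹)⁻¹ := by group
        _ = m * (v⁻¹ * ((k : G) * v * (k : G)⁻¹)) * m⁻¹ := by rw [← h3]; group
    · rintro _ ⟨v, hv, rfl⟩
      set v1 := (k : G)⁻¹ * (m * v * m⁻¹) * k with hv1
      have hv1V : v1 ∈ V := by
        have := hHV _ (H.inv_mem k.2) _ (hHV m (hMH hm) v hv)
        rwa [inv_inv] at this
      have h1 := hinvV ⟨m, hMH hm⟩ hm hmD v hv
      simp only at h1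
      have e : m * f v * m⁻¹ = (f v1)⁻¹ := by
        calc m * f v * m⁻¹ = (m * v * m⁻¹)⁻¹ * (m * ((k : G) * v * (k : G)⁻¹) * m⁻¹) := by
              simp only [f]; group
          _ = (m * v * m⁻¹)⁻¹ * v1 := by rw [h1, hv1]
          _ = (f v1)⁻¹ := by rw [hv1]; simp only [f]; group
      show m * f v * m⁻¹ ∈ W
      rw [e]
      exact W.inv_mem (hfW v1 hv1V)
  have hcen : ∀ d ∈ D, ∀ w ∈ W, d * w = w * d := by
    intro d hd w hw
    have hdM : d ∈ M := (Subgroup.mem_inf.1 hd).1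
    set t := d * w * d⁻¹ * w⁻¹ with ht
    have htW : t ∈ W := W.mul_mem (hnormal d hdM w hw) (W.inv_mem hw)
    set w1 := (k : G) * w * (k : G)⁻¹ with hw1
    have h1 := (hπcomm k ⟨d, hMH hdM⟩).1 (hkcommD ⟨d, hMH hdM⟩ hd)
    have h3 := mem_centralizer_iff.1 h1 (d * w1 * d⁻¹)
      (hHU d (hMH hdM) _ (Subgroup.mem_inf.1 (hWV (hkW w hw))).1)
    have h5 : (k : G) * t * (k : G)⁻¹ = d * w1 * d⁻¹ * w1⁻¹ := by
      calc (k : G) * t * (k : G)⁻¹
          = ((k : G) * d * (k : G)⁻¹ * d⁻¹) * (d * w1 * d⁻¹) *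
              ((k : G) * d * (k : G)⁻¹ * d⁻¹)⁻¹ * w1⁻¹ := by rw [ht, hw1]; group
        _ = d * w1 * d⁻¹ * w1⁻¹ := by rw [← h3]; group
    have ht1 : t = 1 := hcc t htW (hcl d hdM w (hVM (hWV hw)))
      (by rw [h5]; exact hcl d hdM w1 (hVM (hWV (hkW w hw))))
    calc d * w = t * (w * d) := by rw [ht]; group
      _ = w * d := by rw [ht1, one_mul]
  have hkact : ∀ x ∈ D, x⁻¹ * ((k : G) * x * (k : G)⁻¹) ∈ W := by
    intro x hx
    set δ := x⁻¹ * ((k : G) * x * (k : G)⁻¹) with hδ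
    have hδD : δ ∈ D := D.mul_mem (D.inv_mem hx) (hkD x hx)
    have hxH : x ∈ H := hMH (Subgroup.mem_inf.1 hx).1
    have hδC : δ ∈ centralizer (U : Set G) := by
      have h1 : π ((⟨x, hxH⟩ : H)⁻¹ * (k * ⟨x, hxH⟩ * k⁻¹)) = 1 := by
        rw [map_mul, map_inv, map_mul, map_mul, map_inv, hkcommD ⟨x, hxH⟩ hx]
        group
      simpa using (hπ1 _).1 h1
    have hδV : δ ∈ V := Subgroup.mem_inf.2
      ⟨hCU (Subgroup.mem_inf.2 ⟨(Subgroup.mem_inf.1 hδD).1, hδC⟩), hδC⟩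
    exact mem_of_pow_odd_mem hM (hVM hδV) hN
      (iterate_conj hVcomm hWV hδV hδ.symm hkW (hfW δ hδV) (by rw [hkGN]; group))
  have hWne : W ≠ ⊥ := by
    intro hWb
    apply hk1
    rw [hπ1]
    refine mem_centralizer_iff.2 fun u hu => ?_
    have h1 := hkact u (hUD hu)
    rw [hWb, mem_bot, inv_mul_eq_one] at h1
    calc u * k = ((k : G) * u * (k : G)⁻¹) * k := by rw [← h1]
      _ = k * u := by group
  have hidx2 : ∀ x ∈ M, ∀ y ∈ M, x ∉ D → y ∉ D → x * y ∈ D := by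
    intro x hx y hy hxD hyD
    have h1 := hinvk ⟨x, hMH hx⟩ hx hxD
    have h2 := hinvk ⟨y, hMH hy⟩ hy hyD
    refine (hDmem ⟨x * y, hMH (M.mul_mem hx hy)⟩ (M.mul_mem hx hy)).2 ?_
    have e : (⟨x * y, hMH (M.mul_mem hx hy)⟩ : H) = ⟨x, hMH hx⟩ * ⟨y, hMH hy⟩ := rfl
    rw [e, map_mul]
    calc π ⟨x, hMH hx⟩ * π ⟨y, hMH hy⟩ * kq * (π ⟨x, hMH hx⟩ * π ⟨y, hMH hy⟩)⁻¹
        = π ⟨x, hMH hx⟩ * (π ⟨y, hMH hy⟩ * kq * (π ⟨y, hMH hy⟩)⁻¹) *
            (π ⟨x, hMH hx⟩)⁻¹ := by group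
      _ = (π ⟨x, hMH hx⟩ * kq * (π ⟨x, hMH hx⟩)⁻¹)⁻¹ := by rw [h2]; group
      _ = kq := by rw [h1, inv_inv]
  have hker : ∀ m ∈ M, m ∉ D → ∀ w ∈ W, m * w = w * m → w ∈ zc M := by
    intro m hm hmD w hw hmw
    refine mem_zc.2 ⟨hVM (hWV hw), fun x hx => ?_⟩
    by_cases hxD : x ∈ D
    · exact hcen x hxD w hw
    · have h1 := hcen _ (hidx2 x hx m⁻¹ (M.inv_mem hm) hxD
        (fun h => hmD (inv_mem_iff.1 h))) w hw
      calc x * w = x * (m⁻¹ * (m * w)) := by group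
        _ = (x * m⁻¹ * w) * m := by rw [hmw]; group
        _ = w * x := by rw [h1]; group
  -- counting
  set C := W ⊓ zc M with hC
  have hCW : C ≤ W := inf_le_left
  let g : C × C → W := fun p => ⟨(p.1 : G) * ((k : G) * p.2 * (k : G)⁻¹),
    W.mul_mem (hCW p.1.2) (hkW _ (hCW p.2.2))⟩
  have hg : Function.Injective g := by
    rintro ⟨⟨a, ha⟩, ⟨b, hb⟩⟩ ⟨⟨a', ha'⟩, ⟨b', hb'⟩⟩ h
    have h1 : a * ((k : G) * b * (k : G)⁻¹) = a' * ((k : G) * b' * (k : G)⁻¹) :=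
      congrArg Subtype.val h
    set z := b * b'⁻¹ with hz
    have hzC : z ∈ C := C.mul_mem hb (C.inv_mem hb')
    have h2 : (k : G) * z * (k : G)⁻¹ = a⁻¹ * a' := by
      calc (k : G) * z * (k : G)⁻¹
          = a⁻¹ * (a * ((k : G) * b * (k : G)⁻¹)) * ((k : G) * b'⁻¹ * (k : G)⁻¹) := by
            rw [hz]; group
        _ = a⁻¹ * a' := by rw [h1]; group
    have hz1 : z = 1 := hcc z (hCW hzC) (Subgroup.mem_inf.1 hzC).2
      (h2 ▸ (Subgroup.mem_inf.1 (C.mul_mem (C.inv_mem ha) ha')).2)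
    have hbb : b = b' := mul_inv_eq_one.1 hz1
    subst hbb
    have haa : a = a' := mul_right_cancel h1
    subst haa
    rfl
  have hcardle : Nat.card C * Nat.card C ≤ Nat.card W := by
    rw [← Nat.card_prod]; exact Nat.card_le_card_of_injective g hg
  have hsurj : ∀ m ∈ M, m ∉ D →
      (∀ c ∈ W, c ∈ zc M → ∃ w ∈ W, w⁻¹ * (m * w * m⁻¹) = c) ∧
        Nat.card W ≤ Nat.card C * Nat.card C := by
    intro m hm hmD
    have hmem : ∀ w ∈ W, w⁻¹ * (m * w * m⁻¹) ∈ C := fun w hw => by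
      refine Subgroup.mem_inf.2 ⟨W.mul_mem (W.inv_mem hw) (hnormal m hm w hw), ?_⟩
      have := hcl w⁻¹ (M.inv_mem (hVM (hWV hw))) m hm
      rw [inv_inv] at this
      convert this using 1
      group
    let t : W →* C :=
      { toFun := fun w => ⟨(w : G)⁻¹ * (m * w * m⁻¹), hmem w w.2⟩
        map_one' := Subtype.ext (by simp)
        map_mul' := fun a b => Subtype.ext (by
          simp only [Subgroup.coe_mul]
          have h1 := hVcomm (b : G)⁻¹ (V.inv_mem (hWV b.2)) _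
            (hWV (hCW (hmem a a.2)))
          calc ((a : G) * b)⁻¹ * (m * ((a : G) * b) * m⁻¹)
              = (b : G)⁻¹ * ((a : G)⁻¹ * (m * a * m⁻¹)) * (m * b * m⁻¹) := by group
            _ = _ := by rw [h1]; group) }
    have hk1 : Nat.card t.ker ≤ Nat.card C := by
      refine Nat.card_le_card_of_injective (fun w : t.ker => (⟨((w : W) : G),
        Subgroup.mem_inf.2 ⟨(w : W).2, hker m hm hmD _ (w : W).2 ?_⟩⟩ : C)) ?_
      · have h1 : ((w : W) : G)⁻¹ * (m * (w : W) * m⁻¹) = 1 :=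
          congrArg Subtype.val (MonoidHom.mem_ker.1 w.2)
        rw [inv_mul_eq_one, eq_mul_inv_iff_mul_eq] at h1
        exact h1.symm
      · intro a b hab
        exact Subtype.ext (Subtype.ext (congrArg (fun c : C => (c : G)) hab))
    have hcard : Nat.card W = Nat.card t.ker * Nat.card t.range := by
      rw [← Subgroup.index_ker, Subgroup.card_mul_index]
    have hr : Nat.card t.range ≤ Nat.card C := Subgroup.card_le_card_group _
    have hle : Nat.card W ≤ Nat.card C * Nat.card C := hcard ▸ Nat.mul_le_mul hk1 hr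
    refine ⟨fun c hcW hcz => ?_, hle⟩
    have hge : Nat.card C ≤ Nat.card t.range := by
      have h1 : Nat.card C * Nat.card C ≤ Nat.card C * Nat.card t.range :=
        hcardle.trans (hcard ▸ Nat.mul_le_mul hk1 le_rfl)
      exact Nat.le_of_mul_le_mul_left h1 Nat.card_pos
    have htop : t.range = ⊤ := Subgroup.eq_top_of_le_card _ hge
    obtain ⟨w, hw⟩ : (⟨c, Subgroup.mem_inf.2 ⟨hcW, hcz⟩⟩ : C) ∈ t.range := htop ▸ mem_top _
    exact ⟨w, w.2, congrArg Subtype.val hw⟩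
  have hgs : Function.Surjective g := by
    have hb := (Nat.bijective_iff_injective_and_card g).2 ⟨hg, ?_⟩
    · exact hb.2
    · rw [Nat.card_prod]
      exact le_antisymm hcardle (hsurj m0 hm0 hm0D).2
  refine ⟨D, W, (k : G), inf_le_left, hidx2, hWD, hzD, hcen, hkact, hkfix, hnormal, hker,
    fun m hm hmD => (hsurj m hm hmD).1, fun w hw => ?_, hWne⟩
  obtain ⟨⟨a, b⟩, hab⟩ := hgs ⟨w, hw⟩
  exact ⟨a, a.2, b, b.2, (congrArg Subtype.val hab).symm⟩

end Cfsg.Agent.CoprimeNilMax
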