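import Cfsg.Agent.CoprimeNilMax.Exists
import Cfsg.Agent.Coprime.MaximalInvariant
import Cfsg.Agent.OddChar.PF.OddOrder
import Cfsg.Agent.S0108
import Cfsg.Agent.Thompson.Subgroup
import Cfsg.Agent.Splitting.Basic
import Cfsg.Agent.SolvStruct.NilpotentHall

/-!
Coprime action with a nilpotent maximal invariant subgroup whose Sylow 2-subgroup has class at
most two forces solvability.
-/

set_option autoImplicit false
set_option linter.style.haveILetI false

namespace Cfsg.Agent.CoprimeNilMax

open Subgroup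
open scoped Pointwise

universe u

variable {G : Type u} [Group G]

/-- invariance under a group of automorphisms -/
def Inv (A : Subgroup (MulAut G)) (X : Subgroup G) : Prop := ∀ a ∈ A, ∀ x ∈ X, a x ∈ X

/-- maximal invariant, nilpotent, with Sylow 2-subgroup of class at most two -/
structure Hyp (A : Subgroup (MulAut G)) (M : Subgroup G) : Prop where
  cop : (Nat.card A).Coprime (Nat.card G)
  ne_top : M ≠ ⊤
  inv : Inv A M
  max : ∀ X : Subgroup G, M ≤ X → X ≠ ⊤ → Inv A X → X = M
  nil : Group.IsNilpotent M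
  cls : ∀ a ∈ M, ∀ b ∈ M, ∀ c ∈ M, (∃ i, a ^ 2 ^ i = 1) → (∃ i, b ^ 2 ^ i = 1) →
    (∃ i, c ^ 2 ^ i = 1) → c * (a * b * a⁻¹ * b⁻¹) = a * b * a⁻¹ * b⁻¹ * c

theorem Inv.iff {A : Subgroup (MulAut G)} {X : Subgroup G} (h : Inv A X) {a : MulAut G}
    (ha : a ∈ A) (x : G) : a x ∈ X ↔ x ∈ X := by
  refine ⟨fun hx => ?_, h a ha x⟩
  have := h a⁻¹ (A.inv_mem ha) _ hx
  rwa [MulAut.inv_apply_self] at this

theorem Inv.normalizer {A : Subgroup (MulAut G)} {X : Subgroup G} (h : Inv A X) :
    Inv A (normalizer (X : Set G)) := by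
  intro a ha g hg
  refine mem_normalizer_iff.2 fun y => ?_
  obtain ⟨y, rfl⟩ := a.surjective y
  rw [← map_inv a, ← map_mul, ← map_mul, h.iff ha, h.iff ha]
  exact mem_normalizer_iff.1 hg y

theorem Inv.centralizer {A : Subgroup (MulAut G)} {X : Subgroup G} (h : Inv A X) :
    Inv A (centralizer (X : Set G)) := by
  intro a ha g hg
  refine mem_centralizer_iff.2 fun y hy => ?_
  obtain ⟨y, rfl⟩ := a.surjective y
  rw [← map_mul, ← map_mul, mem_centralizer_iff.1 hg y ((h.iff ha y).1 hy)]

variable [Finite G]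

theorem pow_two_iff_of_sylow {p : ℕ} [Fact p.Prime] {M : Subgroup G} (R : Sylow p M)
    [hR : (R : Subgroup M).Normal] (x : M) :
    x ∈ (R : Subgroup M) ↔ ∃ i, (x : G) ^ p ^ i = 1 := by
  refine ⟨fun hx => ?_, fun ⟨i, hi⟩ => ?_⟩
  · obtain ⟨i, hi⟩ := R.2 ⟨x, hx⟩
    exact ⟨i, by simpa using congrArg (fun y : (R : Subgroup M) => ((y : M) : G)) hi⟩
  · have hx : IsPGroup p (zpowers x) := by
      rintro ⟨y, hy⟩
      obtain ⟨j, rfl⟩ := mem_zpowers_iff.1 hy
      refine ⟨i, Subtype.ext ?_⟩
      show (x ^ j) ^ p ^ i = 1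
      rw [← zpow_natCast, ← zpow_mul, mul_comm, zpow_mul, zpow_natCast]
      rw [show x ^ p ^ i = 1 from Subtype.ext (by simpa using hi), one_zpow]
    obtain ⟨S, hS⟩ := hx.exists_le_sylow
    haveI := (Sylow.unique_of_normal R hR).instSubsingleton
    rw [Subsingleton.elim R S]
    exact hS (mem_zpowers x)

theorem sylow_normal {p : ℕ} [Fact p.Prime] {M : Subgroup G} (hnil : Group.IsNilpotent M)
    (R : Sylow p M) : (R : Subgroup M).Normal := by
  have h := (Group.isNilpotent_of_finite_tfae (G := M)).out 0 3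
  exact h.1 hnil p ‹_› R

/-- passing to a quotient -/
theorem exists_quotient {A : Subgroup (MulAut G)} {M : Subgroup G} (h : Hyp A M) (N : Subgroup G)
    [N.Normal] (hinv : Inv A N) (hNM : N ≤ M) :
    ∃ (A' : Subgroup (MulAut (G ⧸ N))) (M' : Subgroup (G ⧸ N)), Hyp A' M' := by
  haveI := h.nil
  have hmap : ∀ a : A, N.map ((a : MulAut G) : G →* G) = N := by
    intro a
    refine le_antisymm ?_ fun x hx => ?_
    · rintro _ ⟨x, hx, rfl⟩
      exact hinv a a.2 x hx
    · exact ⟨(a : MulAut G)⁻¹ x, hinv _ (A.inv_mem a.2) x hx, MulAut.apply_inv_self _ _ x⟩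
  let ψ : A →* MulAut (G ⧸ N) :=
    { toFun := fun a => QuotientGroup.congr N N (a : MulAut G) (hmap a)
      map_one' := by
        ext x
        obtain ⟨g, rfl⟩ := QuotientGroup.mk'_surjective N x
        rfl
      map_mul' := fun a b => by
        ext x
        obtain ⟨g, rfl⟩ := QuotientGroup.mk'_surjective N x
        rfl }
  set π := QuotientGroup.mk' N with hπ
  have hπs := QuotientGroup.mk'_surjective N
  have hψ : ∀ (a : A) (g : G), ψ a (π g) = π ((a : MulAut G) g) := fun a g => rfl
  have hcm : (M.map π).comap π = M := by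
    rw [comap_map_eq, QuotientGroup.ker_mk', sup_eq_left.2 hNM]
  refine ⟨ψ.range, M.map π, ⟨?_, ?_, ?_, ?_, ?_, ?_⟩⟩
  · refine Nat.Coprime.coprime_dvd_right (card_quotient_dvd_card N) ?_
    exact Nat.Coprime.coprime_dvd_left (card_range_dvd ψ) h.cop
  · intro e
    exact h.ne_top (by rw [← hcm, e, comap_top])
  · rintro _ ⟨a, rfl⟩ _ ⟨x, hx, rfl⟩
    exact ⟨(a : MulAut G) x, h.inv a a.2 x hx, (hψ a x).symm⟩
  · intro X hMX hX hXinv
    have h1 : X.comap π = M := h.max _ (map_le_iff_le_comap.1 hMX)
      (fun e => hX (by rw [← map_comap_eq_self_of_surjective hπs X, e, map_top_of_surjective _ hπs]))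
      (fun a ha x hx => by
        rw [mem_comap, ← hψ ⟨a, ha⟩]
        exact hXinv _ ⟨⟨a, ha⟩, rfl⟩ _ (mem_comap.1 hx))
    rw [← map_comap_eq_self_of_surjective hπs X, h1]
  · exact Group.nilpotent_of_surjective (π.subgroupMap M) (π.subgroupMap_surjective M)
  · have lift : ∀ y ∈ M.map π, (∃ i, y ^ 2 ^ i = 1) → ∃ x ∈ M, (∃ i, x ^ 2 ^ i = 1) ∧ π x = y := by
      rintro _ ⟨x, hx, rfl⟩ ⟨i, hi⟩
      obtain ⟨s, r, hr, ho⟩ : ∃ s r, Odd r ∧ orderOf x = 2 ^ s * r :=
        Nat.exists_eq_two_pow_mul_odd (orderOf_pos x).ne'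
      obtain ⟨e, he⟩ : ∃ e : ℕ, (π x ^ r) ^ e = π x := by
        refine exists_pow_eq_self_of_coprime ?_
        exact Nat.Coprime.coprime_dvd_right (orderOf_dvd_of_pow_eq_one hi)
          ((Nat.coprime_two_right.2 hr).pow_right _)
      refine ⟨(x ^ r) ^ e, M.pow_mem (M.pow_mem hx r) e, ⟨s, ?_⟩, by rw [map_pow, map_pow, he]⟩
      rw [← pow_mul, ← pow_mul, show r * (e * 2 ^ s) = 2 ^ s * r * e by ring, pow_mul, ← ho,
        pow_orderOf_eq_one, one_pow]
    intro a ha b hb c hc ha2 hb2 hc2
    obtain ⟨a, haM, ha2', rfl⟩ := lift a ha ha2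
    obtain ⟨b, hbM, hb2', rfl⟩ := lift b hb hb2
    obtain ⟨c, hcM, hc2', rfl⟩ := lift c hc hc2
    simp only [← map_mul, ← map_inv]
    rw [h.cls a haM b hbM c hcM ha2' hb2' hc2']

theorem aux : ∀ (n : ℕ) (G : Type u) [Group G] [Finite G], Nat.card G = n →
    ∀ (A : Subgroup (MulAut G)) (M : Subgroup G), Hyp A M → Group.IsSolvable G := by
  intro n
  induction n using Nat.strong_induction_on with
  | _ n ih =>
    intro G _ _ hn A M h
    haveI := h.nil
    haveI : Finite A := Finite.of_injective (fun a : A => ((a : MulAut G) : G → G))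
      fun a b e => Subtype.ext (DFunLike.coe_injective e)
    by_cases hodd : Odd (Nat.card G)
    · exact Cfsg.Agent.PF.isSolvable_of_odd G hodd
    have hAodd : Odd (Nat.card A) := by
      rw [← Nat.coprime_two_right]
      exact Nat.Coprime.coprime_dvd_right (even_iff_two_dvd.1 (Nat.not_odd_iff_even.1 hodd)) h.cop
    haveI : Group.IsSolvable A := Cfsg.Agent.PF.isSolvable_of_odd A hAodd
    -- nothing in M is normal
    by_cases hcore : ∃ N : Subgroup G, N.Normal ∧ N ≠ ⊥ ∧ Inv A N ∧ N ≤ M
    · obtain ⟨N, hN, hNb, hNinv, hNM⟩ := hcore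
      haveI := hN
      obtain ⟨A', M', h'⟩ := exists_quotient h N hNinv hNM
      haveI := ih _ (hn ▸ Cfsg.Lib.Coprime.card_quotient_lt hNb) (G ⧸ N) rfl A' M' h'
      haveI : Group.IsSolvable M := inferInstance
      haveI : Group.IsSolvable N := Cfsg.Lib.Coprime.isSolvable_of_le hNM inferInstance
      exact Group.isSolvable_of_ker_le_range N.subtype (QuotientGroup.mk' N) (by simp)
    push Not at hcore
    have hnorm : ∀ X : Subgroup G, Inv A X → X ≤ M → X ≠ ⊥ →
        M ≤ normalizer (X : Set G) → normalizer (X : Set G) = M := by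
      intro X hX hXM hXb hMX
      refine h.max _ hMX (fun e => ?_) hX.normalizer
      exact hcore X (normalizer_eq_top_iff.1 e) hXb hX hXM
    by_cases hMb : M = ⊥
    · haveI : Fact (Nat.Prime 2) := ⟨Nat.prime_two⟩
      letI : MulDistribMulAction A G := MulDistribMulAction.compHom G A.subtype
      obtain ⟨S, hS, hSi, hSinv⟩ := Cfsg.Lib.Coprime.MaximalInvariant.exists_invariant_sylow_ext
        (A := A) (G := G) h.cop (Or.inl inferInstance) 2
      have hSb : S ≠ ⊥ := fun e => by
        rw [e, index_bot] at hSi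
        exact hSi (even_iff_two_dvd.1 (Nat.not_odd_iff_even.1 hodd))
      by_cases hSt : S = ⊤
      · haveI : Group.IsNilpotent G := by
          have : IsPGroup 2 G := by
            intro g
            obtain ⟨i, hi⟩ := hS ⟨g, hSt ▸ mem_top g⟩
            exact ⟨i, congrArg Subtype.val hi⟩
          exact this.isNilpotent
        infer_instance
      · exact absurd ((h.max S (hMb ▸ bot_le) hSt (fun a ha x hx => hSinv ⟨a, ha⟩ x hx)).trans hMb) hSb
    -- local information at each prime of M
    have hloc : ∀ (p : ℕ) [Fact p.Prime], p ∣ Nat.card M → ∃ P : Sylow p G,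
        (P : Subgroup G) ≤ M ∧ Inv A (P : Subgroup G) ∧ (P : Subgroup G) ≠ ⊥ ∧
          M ≤ normalizer ((P : Subgroup G) : Set G) := by
      intro p _ hp
      obtain ⟨R⟩ : Nonempty (Sylow p M) := inferInstance
      haveI hRn : (R : Subgroup M).Normal :=
        sylow_normal h.nil R
      set P₀ := (R : Subgroup M).map M.subtype with hP₀
      have hmem : ∀ x, x ∈ P₀ ↔ x ∈ M ∧ ∃ i, x ^ p ^ i = 1 := by
        intro x
        constructor
        · rintro ⟨y, hy, rfl⟩
          exact ⟨y.2, (pow_two_iff_of_sylow R y).1 hy⟩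
        · rintro ⟨hx, hi⟩
          exact ⟨⟨x, hx⟩, (pow_two_iff_of_sylow R ⟨x, hx⟩).2 hi, rfl⟩
      have hinv : Inv A P₀ := by
        intro a ha x hx
        obtain ⟨hxM, i, hi⟩ := (hmem x).1 hx
        exact (hmem _).2 ⟨h.inv a ha x hxM, i, by rw [← map_pow, hi, map_one]⟩
      have hMP : M ≤ normalizer (P₀ : Set G) := fun m hm =>
        le_normalizer_map M.subtype ⟨⟨m, hm⟩, by rw [normalizer_eq_top_iff.2 hRn]; exact mem_top _, rfl⟩
      have hPne : P₀ ≠ ⊥ := by
        rw [hP₀, Ne, map_eq_bot_iff_of_injective _ M.subtype_injective]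
        exact R.ne_bot_of_dvd_card hp
      have hNP := hnorm P₀ hinv (map_subtype_le _) hPne hMP
      obtain ⟨P, hP⟩ := (R.2.map M.subtype).exists_le_sylow
      have hPe : (P : Subgroup G) = P₀ := by
        by_contra hne
        have h2 := Cfsg.Lib.Transfer.lt_inf_normalizer_of_lt P (lt_of_le_of_ne hP (Ne.symm hne))
        rw [hNP] at h2
        obtain ⟨x, hx, hxn⟩ := SetLike.exists_of_lt h2
        obtain ⟨i, hi⟩ := P.2 ⟨x, (Subgroup.mem_inf.1 hx).1⟩
        exact hxn ((hmem x).2 ⟨(Subgroup.mem_inf.1 hx).2, i, congrArg Subtype.val hi⟩)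
      exact ⟨P, hPe ▸ map_subtype_le _, hPe ▸ hinv, hPe ▸ hPne, hPe ▸ hMP⟩
    by_cases hpodd : ∃ p, p.Prime ∧ p ≠ 2 ∧ p ∣ Nat.card M
    · obtain ⟨p, hp, hp2, hpM⟩ := hpodd
      haveI := Fact.mk hp
      obtain ⟨P, hPM, hPinv, hPne, hMP⟩ := hloc p hpM
      have hMnp := Cfsg.Lib.Splitting.hasNormalPComplement_of_nilpotent (G := M) p
      have hc : Cfsg.HasNormalPComplement p G := by
        refine (Cfsg.Agent.S0108.result hp2 P).2 ⟨?_, ?_⟩
        · have hJinv : Inv A (Cfsg.thompsonSubgroupOf p (P : Subgroup G)) := by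
            intro a ha x hx
            have e : ((P : Subgroup G).map a.toMonoidHom) = P := by
              refine le_antisymm ?_ fun y hy => ?_
              · rintro _ ⟨y, hy, rfl⟩; exact hPinv a ha y hy
              · exact ⟨a⁻¹ y, hPinv _ (A.inv_mem ha) y hy, MulAut.apply_inv_self _ a y⟩
            have h1 := Cfsg.Lib.Thompson.map_thompsonSubgroupOf (p := p) (f := a.toMonoidHom)
              (P := (P : Subgroup G)) a.injective.injOn
            rw [e] at h1
            exact h1 ▸ mem_map_of_mem a.toMonoidHom hx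
          rw [hnorm _ hJinv ((Cfsg.Lib.Thompson.thompsonSubgroupOf_le _).trans hPM)
            (Cfsg.Lib.Thompson.thompsonSubgroupOf_ne_bot P.2 hPne)
            (hMP.trans (Cfsg.Lib.Thompson.normalizer_le_normalizer_thompson _))]
          exact hMnp
        · set Z := (P : Subgroup G) ⊓ centralizer ((P : Subgroup G) : Set G) with hZ
          have hZinv : Inv A Z := fun a ha x hx => Subgroup.mem_inf.2
            ⟨hPinv a ha x (Subgroup.mem_inf.1 hx).1, hPinv.centralizer a ha x (Subgroup.mem_inf.1 hx).2⟩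
          have hMZ : M ≤ centralizer (Z : Set G) := Cfsg.Lib.Coprime.le_of_forall_sylow fun r hr => by
            haveI := Fact.mk hr
            obtain ⟨S⟩ : Nonempty (Sylow r M) := inferInstance
            refine ⟨S, ?_⟩
            rintro _ ⟨s, hs, rfl⟩
            refine mem_centralizer_iff.2 fun z hz => ?_
            obtain ⟨hzP, hzc⟩ := Subgroup.mem_inf.1 hz
            by_cases hrp : r = p
            · subst hrp
              haveI hSn : (S : Subgroup M).Normal :=
                sylow_normal h.nil S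
              obtain ⟨i, hi⟩ := (pow_two_iff_of_sylow S s).1 hs
              have hsP : (s : G) ∈ (P : Subgroup G) := by
                obtain ⟨T, hT⟩ := (show IsPGroup r (zpowers (s : G)) by
                  rintro ⟨y, hy⟩
                  obtain ⟨j, rfl⟩ := mem_zpowers_iff.1 hy
                  refine ⟨i, Subtype.ext ?_⟩
                  show ((s : G) ^ j) ^ r ^ i = 1
                  rw [← zpow_natCast, ← zpow_mul, mul_comm, zpow_mul, zpow_natCast,
                    hi, one_zpow]).exists_le_sylow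
                obtain ⟨R'⟩ : Nonempty (Sylow r M) := inferInstance
                haveI : ((P.subtype hPM : Sylow r M) : Subgroup M).Normal :=
                  sylow_normal h.nil _
                exact (pow_two_iff_of_sylow (P.subtype hPM) s).2 ⟨i, hi⟩
              exact (mem_centralizer_iff.1 hzc (s : G) hsP).symm
            · obtain ⟨i, hi⟩ := IsPGroup.iff_orderOf.1 S.2 ⟨s, hs⟩
              obtain ⟨j, hj⟩ := IsPGroup.iff_orderOf.1 P.2 ⟨z, hzP⟩
              rw [Subgroup.orderOf_mk] at hi hj
              exact (congrArg Subtype.val (Cfsg.Lib.SolvStruct.commute_of_coprime_of_nilpotent (K := M) hrp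
                (x := s) (y := ⟨z, hPM hzP⟩) ⟨i, hi⟩ ⟨j, by rw [Subgroup.orderOf_mk]; exact hj⟩).eq).symm
          have hZb : Z ≠ ⊥ := by
            intro e
            haveI : Nontrivial (P : Subgroup G) := (nontrivial_iff_ne_bot _).2 hPne
            haveI := P.2.center_nontrivial
            obtain ⟨⟨z, hz⟩, hz1⟩ := exists_ne (1 : center (P : Subgroup G))
            have hzZ : (z : G) ∈ Z := Subgroup.mem_inf.2 ⟨z.2, mem_centralizer_iff.2 fun y hy =>
              congrArg Subtype.val (mem_center_iff.1 hz ⟨y, hy⟩)⟩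
            rw [e, mem_bot] at hzZ
            exact hz1 (Subtype.ext (Subtype.ext hzZ))
          have hC : centralizer (Z : Set G) = M := by
            refine h.max _ hMZ (fun e => ?_) hZinv.centralizer
            refine hcore Z ⟨fun x hx g => ?_⟩ hZb hZinv (inf_le_left.trans hPM)
            rw [← mem_centralizer_iff.1 (e ▸ mem_top g : g ∈ centralizer (Z : Set G)) x hx,
              mul_inv_cancel_right]
            exact hx
          have hC' : centralizer (((P : Subgroup G) : Set G) ⊓ (centralizer (P : Set G) : Set G)) = M := hC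
          rw [hC']; exact hMnp
      -- descend to the complement
      set K := Cfsg.pResidual p G with hK
      have hKc : (Nat.card K).Coprime p := Cfsg.Lib.Transfer.hasNormalPComplement_iff_pResidual.1 hc
      have hsup : K ⊔ (P : Subgroup G) = ⊤ := Cfsg.Lib.Transfer.pResidual_sup_sylow P
      have hKinv : Inv A K := fun a ha x hx =>
        Cfsg.Lib.Transfer.pResidual_map_le a.toMonoidHom (mem_map_of_mem _ hx)
      haveI : K.Normal := inferInstanceAs (Cfsg.pResidual p G).Normal
      have hKP : ∀ x ∈ K, x ∈ (P : Subgroup G) → x = 1 := by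
        intro x hxK hxP
        obtain ⟨i, hi⟩ := P.2 ⟨x, hxP⟩
        refine orderOf_eq_one_iff.1 (Nat.eq_one_of_dvd_coprimes (hKc.pow_right i)
          (Subgroup.orderOf_dvd_natCard K hxK) (orderOf_dvd_of_pow_eq_one ?_))
        exact congrArg Subtype.val hi
      haveI : Group.IsSolvable (G ⧸ K) := by
        haveI : Group.IsNilpotent (P : Subgroup G) := P.2.isNilpotent
        refine Group.isSolvable_of_surjective (f := (QuotientGroup.mk' K).comp (P : Subgroup G).subtype) fun y => ?_
        obtain ⟨g, rfl⟩ := QuotientGroup.mk'_surjective _ y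
        obtain ⟨a, ha, b, hb, rfl⟩ := mem_sup_of_normal_left.1 (hsup.ge (mem_top g))
        refine ⟨⟨b, hb⟩, ?_⟩
        show QuotientGroup.mk' K b = _
        rw [map_mul, show QuotientGroup.mk' K a = 1 from (QuotientGroup.eq_one_iff a).2 ha, one_mul]
      suffices hKsol : Group.IsSolvable K by
        haveI := hKsol
        exact Group.isSolvable_of_ker_le_range K.subtype (QuotientGroup.mk' K) (by simp)
      by_cases hKM : K ≤ M
      · haveI : Group.IsSolvable M := inferInstance
        exact Cfsg.Lib.Coprime.isSolvable_of_le hKM inferInstance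
      let ψA : A →* MulAut K :=
        { toFun := fun a =>
            { toFun := fun x => ⟨(a : MulAut G) x, hKinv a a.2 x x.2⟩
              invFun := fun x => ⟨(a : MulAut G)⁻¹ x, hKinv _ (A.inv_mem a.2) x x.2⟩
              left_inv := fun x => Subtype.ext (MulAut.inv_apply_self _ _ _)
              right_inv := fun x => Subtype.ext (MulAut.apply_inv_self _ _ _)
              map_mul' := fun x y => Subtype.ext (map_mul _ _ _) }
          map_one' := rfl
          map_mul' := fun a b => rfl }
      let ψP : (P : Subgroup G) →* MulAut K :=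
        (MulAut.conjNormal (H := K)).comp (P : Subgroup G).subtype
      have hψP : ∀ (g : (P : Subgroup G)) (x : K), ((ψP g x : K) : G) = g * x * (g : G)⁻¹ :=
        fun g x => MulAut.conjNormal_apply _ _
      have hnorms : ψA.range ≤ normalizer (ψP.range : Set (MulAut K)) := by
        rintro _ ⟨a, rfl⟩
        refine mem_normalizer_fintype ?_
        rintro _ ⟨g, rfl⟩
        refine ⟨⟨(a : MulAut G) g, hPinv a a.2 g g.2⟩, ?_⟩
        ext x
        rw [hψP]
        show (a : MulAut G) g * x * ((a : MulAut G) g)⁻¹ =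
          (a : MulAut G) (((ψP g ((ψA a)⁻¹ x)) : K) : G)
        rw [hψP, map_mul, map_mul, map_inv]
        congr 2
        exact (MulAut.apply_inv_self _ (a : MulAut G) (x : G)).symm
      set B := ψP.range ⊔ ψA.range with hB
      have hBcop : (Nat.card B).Coprime (Nat.card K) := by
        have h1 := Cfsg.Lib.Coprime.card_sup_mul_card_inf hnorms
        refine Nat.Coprime.coprime_dvd_left (Dvd.intro _ h1) (Nat.Coprime.mul_left ?_ ?_)
        · obtain ⟨i, hi⟩ := P.2.exists_card_eq
          exact Nat.Coprime.coprime_dvd_left ((card_range_dvd ψP).trans (dvd_of_eq hi))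
            ((Nat.coprime_comm.1 hKc).pow_left i)
        · exact Nat.Coprime.coprime_dvd_left (card_range_dvd ψA)
            (Nat.Coprime.coprime_dvd_right (card_subgroup_dvd_card K) h.cop)
      have hMK : M.subgroupOf K ≠ ⊤ := fun e => hKM (subgroupOf_eq_top.1 e)
      have hyp : Hyp B (M.subgroupOf K) := by
        refine ⟨hBcop, hMK, ?_, ?_, ?_, ?_⟩
        · intro b hb
          suffices B ≤ { carrier := {β : MulAut K | ∀ x, x ∈ M.subgroupOf K ↔ β x ∈ M.subgroupOf K}
                         mul_mem' := fun {β γ} h1 h2 x => (h2 x).trans (h1 _)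
                         one_mem' := fun x => Iff.rfl
                         inv_mem' := fun {β} h1 x => by
                           have h3 := h1 (β⁻¹ x)
                           rw [MulAut.apply_inv_self] at h3
                           exact h3.symm } from fun x hx => (this hb x).1 hx
          refine sup_le ?_ ?_
          · rintro _ ⟨g, rfl⟩ x
            rw [mem_subgroupOf, mem_subgroupOf, hψP]
            exact (M.mul_mem_cancel_right (M.inv_mem (hPM g.2))).trans
              (M.mul_mem_cancel_left (hPM g.2)) |>.symm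
          · rintro _ ⟨a, rfl⟩ x
            exact (h.inv.iff a.2 (x : G)).symm
        · intro X hMX hX hXinv
          set X' := X.map K.subtype with hX'
          have hXP : (P : Subgroup G) ≤ normalizer (X' : Set G) := fun g hg =>
            mem_normalizer_fintype fun y hy => by
              obtain ⟨x, hx, rfl⟩ := hy
              exact ⟨ψP ⟨g, hg⟩ x, hXinv _ (mem_sup_left ⟨⟨g, hg⟩, rfl⟩) x hx, hψP _ _⟩
          have hY : ∀ y, y ∈ X' ⊔ (P : Subgroup G) → ∃ x ∈ X', ∃ g ∈ (P : Subgroup G), x * g = y := by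
            intro y hy
            rw [sup_comm] at hy
            have h2 : y ∈ (((P : Subgroup G) : Set G) * (X' : Set G) : Set G) := by
              rw [← Subgroup.coe_mul_of_left_le_normalizer_right _ _ hXP]
              exact hy
            obtain ⟨g, hg, x, hx, rfl⟩ := h2
            exact ⟨g * x * g⁻¹, (mem_normalizer_iff.1 (hXP hg) x).1 hx, g, hg, by group⟩
          have hMY : M ≤ X' ⊔ (P : Subgroup G) := by
            intro m hm
            obtain ⟨a, ha, b, hb, rfl⟩ := mem_sup_of_normal_left.1 (hsup.ge (mem_top m))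
            have haM : a ∈ M := (M.mul_mem_cancel_right (hPM hb)).1 hm
            exact mul_mem_sup ⟨⟨a, ha⟩, hMX haM, rfl⟩ hb
          have hYt : X' ⊔ (P : Subgroup G) ≠ ⊤ := fun e => hX (by
            rw [eq_top_iff]
            rintro x -
            obtain ⟨y, hy, g, hg, hyg⟩ := hY x (e ▸ mem_top _)
            have hgK : g ∈ K := by
              have hyK : y ∈ K := map_subtype_le X hy
              have := K.mul_mem (K.inv_mem hyK) x.2
              rwa [← hyg, inv_mul_cancel_left] at this
            rw [hKP g hgK hg, mul_one] at hyg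
            obtain ⟨z, hz, hze⟩ := hy
            have : z = x := Subtype.ext (hze.trans hyg)
            exact this ▸ hz)
          have hYinv : Inv A (X' ⊔ (P : Subgroup G)) := by
            intro a ha y hy
            obtain ⟨_, ⟨x, hx, rfl⟩, g, hg, rfl⟩ := hY y hy
            rw [map_mul]
            exact mul_mem_sup ⟨ψA ⟨a, ha⟩ x, hXinv _ (mem_sup_right ⟨⟨a, ha⟩, rfl⟩) x hx, rfl⟩
              (hPinv a ha g hg)
          have hYM := h.max _ hMY hYt hYinv
          refine le_antisymm (fun x hx => ?_) hMX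
          rw [mem_subgroupOf, ← hYM]
          exact mem_sup_left ⟨x, hx, rfl⟩
        · haveI : Group.IsNilpotent ↥((M ⊓ K).subgroupOf M) := inferInstance
          haveI : Group.IsNilpotent ↥(M ⊓ K) := Group.nilpotent_of_mulEquiv
            (subgroupOfEquivOfLe (inf_le_left : M ⊓ K ≤ M))
          rw [← inf_subgroupOf_right]
          exact Group.nilpotent_of_mulEquiv
            (subgroupOfEquivOfLe (inf_le_right : M ⊓ K ≤ K)).symm
        · intro a ha b hb c hc ha2 hb2 hc2
          have e : ∀ x : K, (∃ i, x ^ 2 ^ i = 1) → ∃ i, (x : G) ^ 2 ^ i = 1 := fun x ⟨i, hi⟩ =>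
            ⟨i, by simpa using congrArg Subtype.val hi⟩
          apply Subtype.ext
          simpa using h.cls a ha b hb c hc (e a ha2) (e b hb2) (e c hc2)
      refine ih _ ?_ K rfl B _ hyp
      rw [← hn]
      refine lt_of_le_of_ne (card_le_card_group K) fun e => ?_
      have hKt : K = ⊤ := eq_top_of_card_eq K e
      exact hPne ((eq_bot_iff_forall _).2 fun x hx => hKP x (hKt ▸ mem_top x) hx)
    · push Not at hpodd
      haveI : Fact (Nat.Prime 2) := ⟨Nat.prime_two⟩
      have hMone : Nat.card M ≠ 1 := fun e => hMb (card_eq_one.1 e)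
      obtain ⟨q, hq, hqM⟩ := Nat.exists_prime_and_dvd hMone
      have hq2 : q = 2 := by
        by_contra hne
        exact hpodd q hq hne hqM
      subst hq2
      obtain ⟨P, hPM, hPinv, hPne, hMP⟩ := hloc 2 hqM
      have hMtwo : IsPGroup 2 M := IsPGroup.of_card
        (Nat.eq_prime_pow_of_unique_prime_dvd Nat.card_pos.ne' fun {d} hd hdM => by
          by_contra hne
          exact hpodd d hd hne hdM)
      have hMeq : M = (P : Subgroup G) := le_antisymm (P.3 hMtwo hPM).le hPM
      have hcl : ClassTwo M := by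
        intro a ha b hb
        have e : ∀ x ∈ M, ∃ i, x ^ 2 ^ i = 1 := fun x hx => by
          obtain ⟨i, hi⟩ := hMtwo ⟨x, hx⟩
          exact ⟨i, congrArg Subtype.val hi⟩
        refine mem_zc.2 ⟨M.mul_mem (M.mul_mem (M.mul_mem ha hb) (M.inv_mem ha)) (M.inv_mem hb),
          fun c hc => h.cls a ha b hb c hc (e a ha) (e b hb) (e c hc)⟩
      by_cases hnc : Cfsg.HasNormalPComplement 2 G
      · set K := Cfsg.pResidual 2 G with hK
        have hKc := Cfsg.Lib.Transfer.hasNormalPComplement_iff_pResidual.1 hnc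
        haveI : K.Normal := inferInstanceAs (Cfsg.pResidual 2 G).Normal
        haveI : Group.IsSolvable K :=
          Cfsg.Agent.PF.isSolvable_of_odd K (Nat.coprime_two_right.1 hKc)
        haveI : Group.IsSolvable (G ⧸ K) := by
          haveI := (Cfsg.Lib.Transfer.isPGroup_quotient_pResidual (p := 2) (G := G)).isNilpotent
          infer_instance
        exact Group.isSolvable_of_ker_le_range K.subtype (QuotientGroup.mk' K) (by simp)
      exfalso
      obtain ⟨D, W, k, w⟩ := exists_wit hMtwo (hMeq ▸ P.not_dvd_index) hcl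
        (hnorm M h.inv le_rfl hMb le_normalizer).le hnc
      have hWD : ∀ a ∈ A, ∀ x ∈ W, a x ∈ D := by
        intro a ha x hx
        refine w.map_le hcl a (h.inv.iff ha) (n := Nat.card A) hAodd ?_ ⟨x, hx, rfl⟩
        exact congrArg Subtype.val (pow_card_eq_one' (x := (⟨a, ha⟩ : A)))
      let D0 : Subgroup G :=
        { carrier := {x | ∀ a ∈ A, a x ∈ D}
          mul_mem' := fun hx hy a ha => by rw [map_mul]; exact D.mul_mem (hx a ha) (hy a ha)
          one_mem' := fun a _ => by rw [map_one]; exact one_mem D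
          inv_mem' := fun hx a ha => by rw [map_inv]; exact D.inv_mem (hx a ha) }
      have hD0 : ∀ x ∈ D0, x ∈ D := fun x hx => hx 1 (one_mem A)
      have hD0M : D0 ≤ M := fun x hx => w.D_le (hD0 x hx)
      have hinv0 : Inv A D0 := fun a ha x hx b hb => hx (b * a) (A.mul_mem hb ha)
      have hDn : ∀ m ∈ M, ∀ x ∈ D, m * x * m⁻¹ ∈ D := by
        intro m hm x hx
        by_cases hmD : m ∈ D
        · exact D.mul_mem (D.mul_mem hmD hx) (D.inv_mem hmD)
        · refine w.idx _ (M.mul_mem hm (w.D_le hx)) _ (M.inv_mem hm) (fun h1 => hmD ?_)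
            fun h1 => hmD (inv_mem_iff.1 h1)
          exact (D.mul_mem_cancel_right hx).1 h1
      have hMD0 : M ≤ normalizer (D0 : Set G) := fun m hm => mem_normalizer_fintype fun x hx a ha => by
        rw [map_mul, map_mul, map_inv]
        exact hDn _ (h.inv a ha m hm) _ (hx a ha)
      have hD0b : D0 ≠ ⊥ := fun e => w.ne ((eq_bot_iff_forall _).2 fun x hx =>
        (mem_bot.1 (e ▸ (fun a ha => hWD a ha x hx : x ∈ D0))))
      have hk : k ∈ normalizer (D0 : Set G) := mem_normalizer_fintype fun x hx => by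
        have h2 := D0.mul_mem hx (fun a ha => hWD a ha _ (w.kact x (hD0 x hx)) :
          x⁻¹ * (k * x * k⁻¹) ∈ D0)
        rwa [mul_inv_cancel_left] at h2
      rw [hnorm D0 hinv0 hD0M hD0b hMD0] at hk
      exact w.not_mem hk

/-- coprime action with a nilpotent maximal invariant subgroup of 2-class at most two -/
theorem solvable {A : Type*} [Group A] [Finite A] (φ : A →* MulAut G)
    (hcop : (Nat.card A).Coprime (Nat.card G))
    (M : Subgroup G) (hMtop : M ≠ ⊤) (hMinv : ∀ a : A, ∀ m : G, m ∈ M → φ a m ∈ M)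
    (hMmax : ∀ H : Subgroup G, M ≤ H → H ≠ ⊤ → (∀ a : A, ∀ h : G, h ∈ H → φ a h ∈ H) → H = M)
    (hnil : Group.IsNilpotent M)
    (h2 : ∀ S : Sylow 2 ↥M, Group.nilpotencyClass ↥(S : Subgroup ↥M) ≤ 2) :
    Group.IsSolvable G := by
  haveI : Fact (Nat.Prime 2) := ⟨Nat.prime_two⟩
  refine aux _ G rfl φ.range M ⟨Nat.Coprime.coprime_dvd_left (card_range_dvd φ) hcop, hMtop, ?_,
    ?_, hnil, ?_⟩
  · rintro _ ⟨a, rfl⟩ x hx
    exact hMinv a x hx
  · intro X hMX hX hXinv
    exact hMmax X hMX hX fun a x hx => hXinv _ ⟨a, rfl⟩ x hx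
  · intro a ha b hb c hc ha2 hb2 hc2
    obtain ⟨S⟩ : Nonempty (Sylow 2 M) := inferInstance
    haveI hSn : (S : Subgroup M).Normal :=
      sylow_normal hnil S
    haveI : Group.IsNilpotent (S : Subgroup M) := S.2.isNilpotent
    let a' : (S : Subgroup M) := ⟨⟨a, ha⟩, (pow_two_iff_of_sylow S _).2 ha2⟩
    let b' : (S : Subgroup M) := ⟨⟨b, hb⟩, (pow_two_iff_of_sylow S _).2 hb2⟩
    let c' : (S : Subgroup M) := ⟨⟨c, hc⟩, (pow_two_iff_of_sylow S _).2 hc2⟩
    have hlc := Subgroup.lowerCentralSeries_eq_bot_iff_nilpotencyClass_le.2 (h2 S)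
    have h1 : a' * b' * a'⁻¹ * b'⁻¹ ∈ Subgroup.lowerCentralSeries (⊤ : Subgroup (S : Subgroup M)) 1 := by
      rw [Subgroup.lowerCentralSeries_succ, Subgroup.lowerCentralSeries_zero]
      exact Subgroup.commutator_mem_commutator (mem_top a') (mem_top b')
    have h3 : (a' * b' * a'⁻¹ * b'⁻¹) * c' * (a' * b' * a'⁻¹ * b'⁻¹)⁻¹ * c'⁻¹ ∈
        Subgroup.lowerCentralSeries (⊤ : Subgroup (S : Subgroup M)) 2 := by
      rw [Subgroup.lowerCentralSeries_succ]
      exact Subgroup.commutator_mem_commutator h1 (mem_top c')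
    rw [hlc, mem_bot, mul_inv_eq_one, mul_inv_eq_iff_eq_mul] at h3
    exact (congrArg (fun x : (S : Subgroup M) => ((x : M) : G)) h3).symm

end Cfsg.Agent.CoprimeNilMax
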