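import Mathlib

/-!
Index-two witnesses in a 2-group of class at most two.

A witness is a subgroup `D` of index two in `M`, a subgroup `W` of `D` and an element `k` which
acts on `D` fixed-point-freely on `W` and trivially on `D / W`.  Two witnesses whose `W` is not
inside the other's `D` determine each other's `D`, so an automorphism of odd order fixing `M`
never separates a witness from its image.
-/

set_option autoImplicit false

namespace Cfsg.Agent.CoprimeNilMax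

open Subgroup

variable {G : Type*} [Group G]

/-- the centre of `M`, as a subgroup of the ambient group -/
def zc (M : Subgroup G) : Subgroup G := M ⊓ centralizer (M : Set G)

theorem mem_zc {M : Subgroup G} {x : G} :
    x ∈ zc M ↔ x ∈ M ∧ ∀ m ∈ M, m * x = x * m := by
  simp only [zc, Subgroup.mem_inf, mem_centralizer_iff, SetLike.mem_coe]

theorem zc_le_self (M : Subgroup G) : zc M ≤ M := inf_le_left

/-- `M` has class at most two -/
def ClassTwo (M : Subgroup G) : Prop :=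
  ∀ a ∈ M, ∀ b ∈ M, a * b * a⁻¹ * b⁻¹ ∈ zc M

/-- a witness for the failure of strong closure of the centre -/
structure Wit (M D W : Subgroup G) (k : G) : Prop where
  D_le : D ≤ M
  idx : ∀ x ∈ M, ∀ y ∈ M, x ∉ D → y ∉ D → x * y ∈ D
  W_le : W ≤ D
  zc_le : zc M ≤ D
  cen : ∀ d ∈ D, ∀ w ∈ W, d * w = w * d
  kact : ∀ x ∈ D, x⁻¹ * (k * x * k⁻¹) ∈ W
  kfix : ∀ w ∈ W, k * w * k⁻¹ = w → w = 1
  normal : ∀ m ∈ M, ∀ w ∈ W, m * w * m⁻¹ ∈ W
  ker : ∀ m ∈ M, m ∉ D → ∀ w ∈ W, m * w = w * m → w ∈ zc M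
  surj : ∀ m ∈ M, m ∉ D → ∀ c ∈ W, c ∈ zc M → ∃ w ∈ W, w⁻¹ * (m * w * m⁻¹) = c
  gen : ∀ w ∈ W, ∃ c ∈ W ⊓ zc M, ∃ c' ∈ W ⊓ zc M, w = c * (k * c' * k⁻¹)
  ne : W ≠ ⊥

variable {M D D' D'' W W' W'' : Subgroup G} {k k' k'' : G}

theorem Wit.exists_center (a : Wit M D W k) : ∃ c ∈ W ⊓ zc M, c ≠ 1 := by
  by_contra h
  push Not at h
  refine a.ne ((Subgroup.eq_bot_iff_forall _).2 fun w hw => ?_)
  obtain ⟨c, hc, c', hc', e⟩ := a.gen w hw
  rw [e, h c hc, h c' hc']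
  group

theorem Wit.W_le_M (a : Wit M D W k) : W ≤ M := a.W_le.trans a.D_le

theorem Wit.not_mem (a : Wit M D W k) : k ∉ M := fun hk => by
  obtain ⟨c, hc, hc1⟩ := a.exists_center
  obtain ⟨hcW, hcZ⟩ := Subgroup.mem_inf.1 hc
  refine hc1 (a.kfix c hcW ?_)
  rw [(mem_zc.1 hcZ).2 k hk]
  group

theorem Wit.transport (a : Wit M D W k) (e : G ≃* G) (he : ∀ x, e x ∈ M ↔ x ∈ M) :
    Wit M (D.map e.toMonoidHom) (W.map e.toMonoidHom) (e k) := by
  have hm : ∀ (S : Subgroup G) (x : G), e x ∈ S.map e.toMonoidHom ↔ x ∈ S := fun S x => by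
    rw [Subgroup.mem_map_equiv, e.symm_apply_apply]
  have hz : ∀ x, e x ∈ zc M ↔ x ∈ zc M := by
    intro x
    rw [mem_zc, mem_zc, he]
    refine and_congr_right fun _ => ⟨fun h m hm' => e.injective ?_, fun h m hm' => ?_⟩
    · rw [map_mul, map_mul]; exact h _ ((he m).2 hm')
    · have := congrArg e (h (e.symm m) ((he _).1 (by rwa [e.apply_symm_apply])))
      rwa [map_mul, map_mul, e.apply_symm_apply] at this
  refine ⟨?_, ?_, ?_, ?_, ?_, ?_, ?_, ?_, ?_, ?_, ?_, ?_⟩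
  · rintro _ ⟨x, hx, rfl⟩; exact (he x).2 (a.D_le hx)
  · intro x hx y hy hxD hyD
    obtain ⟨x, rfl⟩ := e.surjective x
    obtain ⟨y, rfl⟩ := e.surjective y
    rw [hm] at hxD hyD
    rw [← map_mul, hm]
    exact a.idx x ((he x).1 hx) y ((he y).1 hy) hxD hyD
  · exact Subgroup.map_mono a.W_le
  · intro x hx
    obtain ⟨x, rfl⟩ := e.surjective x
    rw [hm]; exact a.zc_le ((hz x).1 hx)
  · rintro _ ⟨d, hd, rfl⟩ _ ⟨w, hw, rfl⟩
    show e d * e w = e w * e d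
    rw [← map_mul, ← map_mul, a.cen d hd w hw]
  · rintro _ ⟨x, hx, rfl⟩
    show (e x)⁻¹ * (e k * e x * (e k)⁻¹) ∈ _
    rw [← map_inv, ← map_inv, ← map_mul, ← map_mul, ← map_mul, hm]
    exact a.kact x hx
  · rintro _ ⟨w, hw, rfl⟩ h
    have h' : e (k * w * k⁻¹) = e w := by rw [map_mul, map_mul, map_inv]; exact h
    show e w = 1
    rw [a.kfix w hw (e.injective h'), map_one]
  · rintro m hm' _ ⟨w, hw, rfl⟩
    obtain ⟨m, rfl⟩ := e.surjective m
    show e m * e w * (e m)⁻¹ ∈ _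
    rw [← map_inv, ← map_mul, ← map_mul, hm]
    exact a.normal m ((he m).1 hm') w hw
  · rintro m hm' hmD _ ⟨w, hw, rfl⟩ h
    obtain ⟨m, rfl⟩ := e.surjective m
    rw [hm] at hmD
    have h' : e (m * w) = e (w * m) := by rw [map_mul, map_mul]; exact h
    exact (hz w).2 (a.ker m ((he m).1 hm') hmD w hw (e.injective h'))
  · rintro m hm' hmD _ ⟨c, hc, rfl⟩ hcz
    obtain ⟨m, rfl⟩ := e.surjective m
    rw [hm] at hmD
    obtain ⟨w, hw, hwc⟩ := a.surj m ((he m).1 hm') hmD c hc ((hz c).1 hcz)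
    refine ⟨e w, (hm W w).2 hw, ?_⟩
    rw [← map_inv, ← map_inv, ← map_mul, ← map_mul, ← map_mul, hwc]
    rfl
  · rintro _ ⟨w, hw, rfl⟩
    obtain ⟨c, hc, c', hc', hwc⟩ := a.gen w hw
    have hin : ∀ c ∈ W ⊓ zc M, e c ∈ W.map e.toMonoidHom ⊓ zc M := fun c hc =>
      Subgroup.mem_inf.2 ⟨(hm W c).2 (Subgroup.mem_inf.1 hc).1, (hz c).2 (Subgroup.mem_inf.1 hc).2⟩
    refine ⟨e c, hin c hc, e c', hin c' hc', ?_⟩
    show e w = _
    rw [hwc]; simp only [map_mul, map_inv]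
  · rw [Ne, Subgroup.map_eq_bot_iff_of_injective _ e.injective]; exact a.ne

/-- adjacency is symmetric and forces equal centres -/
theorem Wit.adj_le (a : Wit M D W k) (b : Wit M D' W' k') {u : G} (hu : u ∈ W') (huD : u ∉ D) :
    W ⊓ zc M ≤ W' ⊓ zc M ∧ ¬ W ≤ D' := by
  have hsub : W ⊓ zc M ≤ W' ⊓ zc M := fun c hc => by
    obtain ⟨hcW, hcZ⟩ := Subgroup.mem_inf.1 hc
    obtain ⟨w, hw, hwc⟩ := a.surj u (b.W_le_M hu) huD c hcW hcZ
    refine Subgroup.mem_inf.2 ⟨?_, hcZ⟩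
    rw [← hwc]
    have h1 := b.normal w⁻¹ (Subgroup.inv_mem _ (a.W_le_M hw)) u hu
    rw [inv_inv] at h1
    have h2 := Subgroup.mul_mem _ h1 (Subgroup.inv_mem _ hu)
    convert h2 using 1
    group
  refine ⟨hsub, fun hle => ?_⟩
  obtain ⟨c, hc, hc1⟩ := a.exists_center
  obtain ⟨hcW, hcZ⟩ := Subgroup.mem_inf.1 hc
  obtain ⟨w, hw, hwc⟩ := a.surj u (b.W_le_M hu) huD c hcW hcZ
  refine hc1 ?_
  rw [← hwc, ← b.cen w (hle hw) u hu]
  group

theorem Wit.adj (a : Wit M D W k) (b : Wit M D' W' k') (h : ¬ W' ≤ D) :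
    ¬ W ≤ D' ∧ W ⊓ zc M = W' ⊓ zc M ∧
      (∀ w ∈ W', w ∉ zc M → w ∉ D) ∧
      (∀ c ∈ W' ⊓ zc M, ∀ c' ∈ W' ⊓ zc M, c ≠ 1 → c' ≠ 1 → c = c') ∧
      (∀ w ∈ W', w * w = 1) := by
  obtain ⟨u, hu, huD⟩ := SetLike.not_le_iff_exists.1 h
  obtain ⟨h1, h2⟩ := a.adj_le b hu huD
  obtain ⟨v, hv, hvD⟩ := SetLike.not_le_iff_exists.1 h2
  have h3 := (b.adj_le a hv hvD).1
  have hC : W ⊓ zc M = W' ⊓ zc M := le_antisymm h1 h3
  have hout : ∀ w ∈ W', w ∉ zc M → w ∉ D := fun w hw hwz hwD =>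
    hwz (b.ker v (a.W_le_M hv) hvD w hw (a.cen w hwD v hv).symm)
  have hprod : ∀ w ∈ W', ∀ w' ∈ W', w ∉ zc M → w' ∉ zc M → w * w' ∈ zc M := by
    intro w hw w' hw' hwz hwz'
    by_contra hn
    exact hout _ (Subgroup.mul_mem _ hw hw') hn
      (a.idx w (b.W_le_M hw) w' (b.W_le_M hw') (hout w hw hwz) (hout w' hw' hwz'))
  have htwo : ∀ c ∈ W' ⊓ zc M, ∀ c' ∈ W' ⊓ zc M, c ≠ 1 → c' ≠ 1 → c = c' := by
    intro c hc c' hc' hc1 hc1'
    obtain ⟨w, hw, hwc⟩ :=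
      b.surj v (a.W_le_M hv) hvD c (Subgroup.mem_inf.1 hc).1 (Subgroup.mem_inf.1 hc).2
    obtain ⟨w', hw', hwc'⟩ :=
      b.surj v (a.W_le_M hv) hvD c' (Subgroup.mem_inf.1 hc').1 (Subgroup.mem_inf.1 hc').2
    have hwz : w ∉ zc M := fun hz => hc1 (by
      rw [← hwc, (mem_zc.1 hz).2 v (a.W_le_M hv)]; group)
    have hwz' : w' ∉ zc M := fun hz => hc1' (by
      rw [← hwc', (mem_zc.1 hz).2 v (a.W_le_M hv)]; group)
    have he : w⁻¹ * w' ∈ zc M :=
      hprod w⁻¹ (Subgroup.inv_mem _ hw) w' hw' (fun hz => hwz (inv_mem_iff.1 hz)) hwz'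
    set e := w⁻¹ * w' with he'
    have hwe : w' = w * e := by rw [he']; group
    have ev := (mem_zc.1 he).2 v (a.W_le_M hv)
    have ecc : e⁻¹ * c * e = c := by
      rw [mul_assoc, (mem_zc.1 he).2 c (zc_le_self M (Subgroup.mem_inf.1 hc).2)]; group
    rw [← hwc', hwe]
    calc c = e⁻¹ * c * e := ecc.symm
      _ = e⁻¹ * w⁻¹ * (v * w * v⁻¹) * e := by rw [← hwc]; group
      _ = e⁻¹ * w⁻¹ * (v * w * (v⁻¹ * e * v) * v⁻¹) := by group
      _ = e⁻¹ * w⁻¹ * (v * w * (v⁻¹ * (v * e)) * v⁻¹) := by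
        rw [mul_assoc v⁻¹ e v, ← ev]
      _ = (w * e)⁻¹ * (v * (w * e) * v⁻¹) := by group
  refine ⟨h2, hC, hout, htwo, fun w hw => ?_⟩
  obtain ⟨c, hc, c', hc', hwc⟩ := b.gen w hw
  have hsq : ∀ c ∈ W' ⊓ zc M, c * c = 1 := by
    intro c hc
    by_contra hn
    have hc1 : c ≠ 1 := fun e => hn (by rw [e, one_mul])
    have := htwo _ (Subgroup.mul_mem _ hc hc) c hc hn hc1
    exact hc1 (mul_eq_left.1 this)
  have hkW : k' * c' * k'⁻¹ ∈ W' := by
    have := Subgroup.mul_mem _ (Subgroup.inv_mem _ (Subgroup.mem_inf.1 hc).1) hw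
    rwa [hwc, inv_mul_cancel_left] at this
  have hcomm := b.cen c (b.W_le (Subgroup.mem_inf.1 hc).1) _ hkW
  rw [hwc]
  calc c * (k' * c' * k'⁻¹) * (c * (k' * c' * k'⁻¹))
      = c * (k' * c' * k'⁻¹ * c) * (k' * c' * k'⁻¹) := by group
    _ = c * c * (k' * (c' * c') * k'⁻¹) := by rw [← hcomm]; group
    _ = 1 := by rw [hsq c hc, hsq c' hc']; group

/-- a witness has only one neighbouring `D` -/
theorem Wit.unique_nbr (hcl : ClassTwo M) (a : Wit M D W k) (b : Wit M D' W' k')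
    (c : Wit M D'' W'' k'') (hb : ¬ W' ≤ D) (hc : ¬ W'' ≤ D) : D' = D'' := by
  obtain ⟨hb2, hbC, hbout, hbtwo, hbsq⟩ := a.adj b hb
  obtain ⟨hc2, hcC, hcout, -, hcsq⟩ := a.adj c hc
  obtain ⟨-, -, -, -, hasq⟩ := b.adj a hb2
  obtain ⟨x, hx, hxD⟩ := SetLike.not_le_iff_exists.1 hb
  obtain ⟨y, hy, hyD⟩ := SetLike.not_le_iff_exists.1 hc
  have hxz : x ∉ zc M := fun h => hxD (a.zc_le h)
  have hyz : y ∉ zc M := fun h => hyD (a.zc_le h)
  have hxy : x * y ∈ D := a.idx x (b.W_le_M hx) y (c.W_le_M hy) hxD hyD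
  have key : ∀ r : G, r ∈ W ⊓ zc M → k * r * k⁻¹ = r → r = 1 :=
    fun r hr h => a.kfix r (Subgroup.mem_inf.1 hr).1 h
  have hcom : x * y = y * x := by
    by_contra hn
    set r := x * y * x⁻¹ * y⁻¹ with hr
    have hrz : r ∈ zc M := hcl x (b.W_le_M hx) y (c.W_le_M hy)
    have hrW : r ∈ W ⊓ zc M := by
      rw [hcC]
      exact Subgroup.mem_inf.2 ⟨Subgroup.mul_mem _ (c.normal x (b.W_le_M hx) y hy)
        (Subgroup.inv_mem _ hy), hrz⟩
    have hsq : x * y * (x * y) = r := by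
      rw [hr, inv_eq_of_mul_eq_one_right (hbsq x hx), inv_eq_of_mul_eq_one_right (hcsq y hy)]
      group
    have hr1 : r = 1 := by
      refine key r hrW ?_
      set z := x * y with hz
      set δ := z⁻¹ * (k * z * k⁻¹) with hδ
      have hδW : δ ∈ W := a.kact z hxy
      calc k * r * k⁻¹ = (z * δ) * (z * δ) := by rw [← hsq, hδ]; group
        _ = z * (δ * z) * δ := by group
        _ = z * z * (δ * δ) := by rw [← a.cen z hxy δ hδW]; group
        _ = r := by rw [hasq δ hδW, mul_one, hsq]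
    apply hn
    calc x * y = r * (y * x) := by rw [hr]; group
      _ = y * x := by rw [hr1, one_mul]
  have half : ∀ {D₁ W₁ D₂ W₂ : Subgroup G} {k₁ k₂ : G}, Wit M D₁ W₁ k₁ → Wit M D₂ W₂ k₂ →
      W ⊓ zc M = W₂ ⊓ zc M → ∀ {p q : G}, p ∈ W₁ → q ∈ W₂ → p ∉ D → q ∉ D → q ∉ zc M →
      p * q = q * p → D₁ ≤ D₂ := by
    intro D₁ W₁ D₂ W₂ k₁ k₂ e f hC₂ p q hp hq hpD hqD hqz hpq v hv
    have hpD₂ : p ∈ D₂ := by
      by_contra hn
      exact hqz (f.ker p (e.W_le_M hp) hn q hq hpq)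
    suffices ∀ v ∈ D₁, v ∈ D → v ∈ D₂ by
      by_cases hvD : v ∈ D
      · exact this v hv hvD
      · have h1 := this _ (Subgroup.mul_mem _ hv (e.W_le hp))
          (a.idx v (e.D_le hv) p (e.W_le_M hp) hvD hpD)
        have h2 := Subgroup.mul_mem _ h1 (Subgroup.inv_mem _ hpD₂)
        rwa [mul_inv_cancel_right] at h2
    intro v hv hvD
    have hpq' : p * q ∈ D := a.idx p (e.W_le_M hp) q (f.W_le_M hq) hpD hqD
    by_contra hn
    refine hqz (f.ker v (e.D_le hv) hn q hq ?_)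
    set r := v * q * v⁻¹ * q⁻¹ with hr
    have hrW : r ∈ W ⊓ zc M := by
      rw [hC₂]
      exact Subgroup.mem_inf.2 ⟨Subgroup.mul_mem _ (f.normal v (e.D_le hv) q hq)
        (Subgroup.inv_mem _ hq), hcl v (e.D_le hv) q (f.W_le_M hq)⟩
    have hr2 : v * (p * q) * v⁻¹ * (p * q)⁻¹ = r := by
      have hvp := e.cen v hv p hp
      have hrp : p * r = r * p := (mem_zc.1 (Subgroup.mem_inf.1 hrW).2).2 p (e.W_le_M hp)
      calc v * (p * q) * v⁻¹ * (p * q)⁻¹ = (v * p) * q * v⁻¹ * q⁻¹ * p⁻¹ := by group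
        _ = p * r * p⁻¹ := by rw [hvp, hr]; group
        _ = r := by rw [hrp]; group
    have hr1 : r = 1 := by
      refine key r hrW ?_
      set z := p * q with hz
      set δ := v⁻¹ * (k * v * k⁻¹) with hδ
      set ε := z⁻¹ * (k * z * k⁻¹) with hε
      have hδW : δ ∈ W := a.kact v hvD
      have hεW : ε ∈ W := a.kact z hpq'
      have h1 : δ * (z * ε) = z * ε * δ := by
        rw [← mul_assoc, ← a.cen z hpq' δ hδW, mul_assoc, ← a.cen ε (a.W_le hεW) δ hδW]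
        group
      have h2 : v * ε = ε * v := a.cen v hvD ε hεW
      calc k * r * k⁻¹ = (v * δ) * (z * ε) * (v * δ)⁻¹ * (z * ε)⁻¹ := by
            rw [← hr2, hδ, hε]; group
        _ = v * (δ * (z * ε)) * δ⁻¹ * v⁻¹ * ε⁻¹ * z⁻¹ := by group
        _ = v * z * ε * v⁻¹ * ε⁻¹ * z⁻¹ := by rw [h1]; group
        _ = v * z * v⁻¹ * (v * ε) * v⁻¹ * ε⁻¹ * z⁻¹ := by group
        _ = r := by rw [h2, ← hr2]; group
    calc v * q = r * (q * v) := by rw [hr]; group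
      _ = q * v := by rw [hr1, one_mul]
  exact le_antisymm (half b c hcC hx hy hxD hyD hyz hcom)
    (half c b hbC hy hx hyD hxD hxz hcom.symm)

/-- an automorphism of odd order fixing `M` does not separate a witness from its image -/
theorem Wit.map_le (hcl : ClassTwo M) (a : Wit M D W k) (σ : MulAut G)
    (hσ : ∀ x, σ x ∈ M ↔ x ∈ M) {n : ℕ} (hn : Odd n) (hpow : σ ^ n = 1) :
    W.map σ.toMonoidHom ≤ D := by
  by_contra h
  have b := a.transport σ hσ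
  have c := b.transport σ hσ
  have hab := (a.adj b h).1
  have hbc : ¬ (W.map σ.toMonoidHom).map σ.toMonoidHom ≤ D.map σ.toMonoidHom :=
    fun hle => h (fun x hx => by
      have := hle ⟨x, hx, rfl⟩
      obtain ⟨y, hy, hyx⟩ := this
      have e : y = x := σ.injective hyx
      exact e ▸ hy)
  have hD : D = (D.map σ.toMonoidHom).map σ.toMonoidHom := b.unique_nbr hcl a c hab hbc
  obtain ⟨j, hj⟩ := hn
  have hev : ∀ i : ℕ, ∀ x, (σ ^ (2 * i)) x ∈ D ↔ x ∈ D := by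
    intro i
    induction i with
    | zero => intro x; simp
    | succ i ih =>
      intro x
      have e : (σ ^ (2 * (i + 1))) x = σ (σ ((σ ^ (2 * i)) x)) := by
        rw [show 2 * (i + 1) = (2 * i + 1) + 1 by ring, pow_succ', pow_succ']
        rfl
      rw [e, ← ih x]
      generalize (σ ^ (2 * i)) x = y
      constructor
      · intro hy
        rw [hD] at hy
        obtain ⟨_, ⟨z, hz, rfl⟩, he⟩ := hy
        exact (σ.injective (σ.injective he)) ▸ hz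
      · intro hy
        rw [hD]
        exact ⟨σ y, ⟨y, hy, rfl⟩, rfl⟩
  apply h
  rintro _ ⟨x, hx, rfl⟩
  have e : σ x = (σ ^ (2 * (j + 1))) x := by
    rw [show 2 * (j + 1) = (2 * j + 1) + 1 by ring, pow_succ, ← hj, hpow, one_mul]
  show σ x ∈ D
  rw [e]
  exact (hev _ x).2 (a.W_le hx)

end Cfsg.Agent.CoprimeNilMax
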